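import Cfsg.Agent.Lib.Char.DegreePSubTwo.Square
import Cfsg.Agent.Lib.Char.Integrality

/-!
# Consequences of the identity for the exterior square

Elements of odd order prime to `p` outside the centre have value zero, involutions have value `-1`,
there are no elements of order four and the centraliser of an involution is abelian.
-/

open Finset
open scoped ComplexConjugate

set_option autoImplicit false
set_option linter.unusedSectionVars false

namespace CfsgLib.Char.DegreePSubTwo

open Cfsg CfsgLib.Char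

universe u

/-- A periodic sequence of iterated squares. -/
theorem zero_or_one_of_periodic {r : ℕ → ℝ} (hsq : ∀ j, r (j + 1) = r j ^ 2) {N : ℕ} (hN : 0 < N)
    (hper : r N = r 0) (h0 : 0 ≤ r 0) : r 0 = 0 ∨ r 0 = 1 := by
  have hpow : ∀ j, r j = r 0 ^ 2 ^ j := fun j => by
    induction j with
    | zero => simp
    | succ j ih => rw [hsq, ih, ← pow_mul, pow_succ]
  have h2 : 2 ≤ 2 ^ N := by
    calc 2 = 2 ^ 1 := rfl
      _ ≤ 2 ^ N := Nat.pow_le_pow_right two_pos hN
  rcases h0.lt_or_eq with h | h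
  · right
    have e : r 0 ^ (2 ^ N - 1) = 1 := by
      have e1 := (hpow N).symm.trans hper
      rw [← Nat.sub_add_cancel (show 1 ≤ 2 ^ N by omega), pow_succ] at e1
      exact (mul_eq_right₀ h.ne').mp e1
    exact (pow_eq_one_iff_of_nonneg h.le (by omega)).mp e
  · exact Or.inl h.symm

variable {p : ℕ} [Fact p.Prime] {G : Type u} [Group G] [Fintype G] {χ : IrrCharacter G} {x : G}
  {ω : ℂ}

/-- Powers of a non-central element of odd order by powers of two are not central. -/
theorem pow_two_pow_not_mem_center {g : G} (hg : Odd (orderOf g)) (hz : g ∉ Subgroup.center G) (j : ℕ) :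
    g ^ 2 ^ j ∉ Subgroup.center G := by
  intro h
  obtain ⟨m, hm⟩ := exists_pow_eq_self_of_coprime (x := g) (n := 2 ^ j)
    ((Nat.coprime_two_left.mpr hg).pow_left j)
  exact hz (hm ▸ Subgroup.pow_mem _ h m)

theorem pow_two_pow_totient {g : G} (hg : Odd (orderOf g)) :
    g ^ 2 ^ (Nat.totient (orderOf g)) = g := by
  conv_rhs => rw [← pow_one g]
  exact pow_eq_pow_iff_modEq.mpr (Nat.ModEq.pow_totient (Nat.coprime_two_left.mpr hg))

theorem pow_two_pow_succ (g : G) (j : ℕ) : g ^ 2 ^ j * g ^ 2 ^ j = g ^ 2 ^ (j + 1) := by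
  rw [← pow_add, ← two_mul, pow_succ']

variable (h : SD p χ x ω)

include h

theorem SD.deg_nat : (χ : G → ℂ) 1 = ((p - 2 : ℕ) : ℂ) := by
  rw [h.deg, Nat.cast_sub (by have := h.five_lt; omega)]
  norm_num

theorem SD.finrank_eq {n : ℕ} (ρ : Representation ℂ G (Fin n → ℂ))
    (hρχ : ρ.character = (χ : G → ℂ)) : Module.finrank ℂ (Fin n → ℂ) = p - 2 := by
  have := h.deg_nat
  rw [← hρχ, Representation.char_one] at this
  exact_mod_cast this

/-- A regular element with value of maximal absolute value is central. -/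
theorem SD.center_of_norm {g : G} (hg : ‖(χ : G → ℂ) g‖ = ((p - 2 : ℕ) : ℝ)) :
    g ∈ Subgroup.center G := by
  obtain ⟨n, ρ, hρ, hρχ⟩ := χ.2
  rw [← hρχ, ← h.finrank_eq ρ hρχ] at hg
  obtain ⟨c, hc⟩ := (norm_char_eq_iff ρ g).mp hg
  refine Subgroup.mem_center_iff.mpr fun y => ?_
  have hcm : ρ y * ρ g = ρ g * ρ y := by
    rw [hc, ← Module.End.one_eq_id, mul_smul_comm, smul_mul_assoc, mul_one, one_mul]
  have h1 : (χ : G → ℂ) (y * g * y⁻¹ * g⁻¹) = (χ : G → ℂ) 1 := by
    rw [← hρχ]
    simp only [Representation.character]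
    congr 1
    rw [map_mul, map_mul, map_mul, hcm, mul_assoc (ρ g), ← map_mul ρ y, mul_inv_cancel, map_one,
      mul_one, ← map_mul, mul_inv_cancel, map_one]
  exact mul_inv_eq_iff_eq_mul.mp (mul_inv_eq_one.mp (h.faith _ h1))

/-- The value at a non-central regular element of odd order. -/
theorem SD.value_odd {g : G} (hgo : Odd (orderOf g)) (hg : ¬ p ∣ orderOf g)
    (hgz : g ∉ Subgroup.center G) : (χ : G → ℂ) g = 0 := by
  have hp5 := h.five_lt
  obtain ⟨b, hodd, -, hrel⟩ := h.square_rel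
  set d : ℝ := ((p - 2 : ℕ) : ℝ) with hd
  have hd0 : (d : ℝ) ≠ 0 := by
    rw [hd]
    exact_mod_cast (show p - 2 ≠ 0 by omega)
  set r : ℕ → ℝ := fun j => ‖(χ : G → ℂ) (g ^ 2 ^ j)‖ / d with hr
  have hstep : ∀ j, r (j + 1) = r j ^ 2 := by
    intro j
    have hoj : Odd (orderOf (g ^ 2 ^ j)) := hgo.of_dvd_nat (orderOf_pow_dvd _)
    have hpj : ¬ p ∣ orderOf (g ^ 2 ^ j) := fun hd' => hg (hd'.trans (orderOf_pow_dvd _))
    have e := hrel _ hpj
    rw [hodd _ hoj hpj, pow_two_pow_succ] at e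
    have e' : (χ : G → ℂ) (g ^ 2 ^ j) * (χ : G → ℂ) (g ^ 2 ^ j) =
        ((p - 2 : ℕ) : ℂ) * (χ : G → ℂ) (g ^ 2 ^ (j + 1)) := by
      rw [Nat.cast_sub (by omega : 2 ≤ p)]
      push_cast
      linear_combination e
    have e'' := congrArg (fun c : ℂ => ‖c‖) e'
    simp only [norm_mul, Complex.norm_natCast, ← hd] at e''
    simp only [hr]
    rw [div_pow, sq, sq, e'', mul_div_mul_left _ _ hd0]
  have hper : r (Nat.totient (orderOf g)) = r 0 := by
    simp only [hr, pow_two_pow_totient hgo, pow_zero, pow_one]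
  have h0 : 0 ≤ r 0 := div_nonneg (norm_nonneg _) (by rw [hd]; exact Nat.cast_nonneg _)
  rcases zero_or_one_of_periodic hstep (Nat.totient_pos.mpr (orderOf_pos g)) hper h0 with e | e <;>
    simp only [hr, pow_zero, pow_one] at e
  · exact norm_eq_zero.mp ((div_eq_zero_iff.mp e).resolve_right hd0)
  · exact absurd (h.center_of_norm ((div_eq_one_iff_eq hd0).mp e)) hgz

/-- The value at an involution. -/
theorem SD.value_invol {a : G} (ha : orderOf a = 2) : (χ : G → ℂ) a = -1 := by
  have hp5 := h.five_lt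
  obtain ⟨b, -, htwo, hrel⟩ := h.square_rel
  have hpa : ¬ p ∣ orderOf a := by
    rw [ha]
    intro hd
    have := Nat.le_of_dvd two_pos hd
    omega
  have e := hrel a hpa
  rw [htwo a 1 (by rw [ha]; norm_num),
    show a * a = 1 by rw [← sq, ← ha, pow_orderOf_eq_one], h.deg] at e
  have e' : ((χ : G → ℂ) a - ((p : ℂ) - 2)) * ((χ : G → ℂ) a + 1) = 0 := by linear_combination e
  rcases mul_eq_zero.mp e' with e1 | e1
  · exfalso
    have := h.faith a (by rw [h.deg]; exact sub_eq_zero.mp e1)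
    rw [this, orderOf_one] at ha
    omega
  · exact eq_neg_of_add_eq_zero_left e1

/-- There are no elements of order four. -/
theorem SD.orderOf_ne_four (g : G) : orderOf g ≠ 4 := by
  intro hg4
  have hp5 := h.five_lt
  obtain ⟨b, -, htwo, hrel⟩ := h.square_rel
  have hsq : orderOf (g * g) = 2 := by
    rw [← sq, orderOf_pow' g two_ne_zero, hg4]
    decide
  have hpg : ¬ p ∣ orderOf g := by
    rw [hg4]
    intro hd
    have := Nat.le_of_dvd (by norm_num) hd
    omega
  have e := hrel g hpg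
  rw [htwo g 2 (by rw [hg4]; norm_num), h.value_invol hsq] at e
  obtain ⟨n, ρ, hρ, hρχ⟩ := χ.2
  obtain ⟨bb, μ, h1, -, h3⟩ := exists_eigen_data ρ g
  have h31 := h3 1
  simp only [pow_one, hρχ] at h31
  have hint : ∀ i, ∃ A B : ℤ, μ i = (A : ℂ) + (B : ℂ) * Complex.I := by
    intro i
    have e4 := h1 i
    rw [hg4] at e4
    have hf : (μ i - 1) * (μ i + 1) * ((μ i - Complex.I) * (μ i + Complex.I)) = 0 := by
      linear_combination e4 - (μ i ^ 2 - 1) * Complex.I_sq
    rcases mul_eq_zero.mp hf with hh | hh <;> rcases mul_eq_zero.mp hh with hh | hh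
    · exact ⟨1, 0, by simpa using sub_eq_zero.mp hh⟩
    · exact ⟨-1, 0, by simpa using eq_neg_of_add_eq_zero_left hh⟩
    · exact ⟨0, 1, by simpa using sub_eq_zero.mp hh⟩
    · exact ⟨0, -1, by simpa using eq_neg_of_add_eq_zero_left hh⟩
  choose A B hAB using hint
  set X := ∑ i, A i
  set Y := ∑ i, B i
  have hz : (χ : G → ℂ) g = (X : ℂ) + (Y : ℂ) * Complex.I := by
    rw [h31, Finset.sum_congr rfl fun i _ => hAB i, Finset.sum_add_distrib, ← Finset.sum_mul]
    push_cast [X, Y]
    rfl
  rw [hz] at e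
  have hre := congrArg Complex.re e
  have him := congrArg Complex.im e
  simp [Complex.mul_re, Complex.mul_im] at hre him
  have hre' : X * X - Y * Y + 1 = ((p : ℤ) - 3) * X := by exact_mod_cast (by linarith : ((X : ℝ) * X - Y * Y + 1) = ((p : ℝ) - 3) * X)
  have him' : 2 * X * Y = ((p : ℤ) - 3) * Y := by exact_mod_cast (by linarith : (2 * (X : ℝ) * Y) = ((p : ℝ) - 3) * Y)
  rcases eq_or_ne Y 0 with hY | hY
  · rw [hY] at hre'
    have hd : X ∣ 1 := ⟨(p : ℤ) - 3 - X, by linear_combination hre'⟩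
    rcases Int.isUnit_iff.mp (isUnit_of_dvd_one hd) with hX | hX <;> rw [hX] at hre' <;> omega
  · have hX : 2 * X = (p : ℤ) - 3 := mul_right_cancel₀ hY him'
    rw [← hX] at hre'
    have hX2 : 2 ≤ X := by omega
    nlinarith

/-- An element of `2`-power order squares to one. -/
theorem SD.sq_eq_one {g : G} {k : ℕ} (hg : orderOf g ∣ 2 ^ k) : g * g = 1 := by
  obtain ⟨i, -, hi⟩ := (Nat.dvd_prime_pow Nat.prime_two).mp hg
  rcases Nat.lt_or_ge i 2 with h2 | h2
  · rw [← sq]
    exact orderOf_dvd_iff_pow_eq_one.mp (hi ▸ Nat.pow_dvd_pow 2 (show i ≤ 1 by omega))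
  · exfalso
    refine h.orderOf_ne_four (g ^ 2 ^ (i - 2)) ?_
    rw [orderOf_pow' _ (pow_ne_zero _ two_ne_zero), hi,
      Nat.gcd_eq_right (Nat.pow_dvd_pow 2 (Nat.sub_le i 2)), Nat.pow_div (Nat.sub_le i 2) two_pos,
      show i - (i - 2) = 2 by omega]
    norm_num

/-- An element of odd order prime to `p` commuting with an involution is central. -/
theorem SD.mem_center_of_commute_invol {a g : G} (ha : orderOf a = 2) (hgo : Odd (orderOf g))
    (hg : ¬ p ∣ orderOf g) (hag : Commute a g) : g ∈ Subgroup.center G := by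
  classical
  by_contra hgz
  have hp5 := h.five_lt
  have hp : p.Prime := Fact.out
  obtain ⟨P, hP⟩ : ∃ P : ℕ, p - 2 = 2 * P + 1 := by
    obtain ⟨k, hk⟩ := hp.odd_of_ne_two (by omega)
    exact ⟨k - 1, by omega⟩
  have haa : a * a = 1 := by rw [← sq, ← ha, pow_orderOf_eq_one]
  have ha1 : a ≠ 1 := fun e => by rw [e, orderOf_one] at ha; omega
  set m := orderOf g with hm
  obtain ⟨n, ρ, hρ, hρχ⟩ := χ.2
  obtain ⟨bb, μ, h1, h2, h3⟩ := exists_eigen_data ρ (a * g)
  have hgm : g ^ m = 1 := pow_orderOf_eq_one g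
  have ham : a ^ m = a := by
    obtain ⟨k, hk⟩ := hgo
    rw [hk, pow_succ, pow_mul, sq, haa, one_pow, one_mul]
  have hpa : (a * g) ^ m = a := by rw [hag.mul_pow, hgm, mul_one, ham]
  have hpg : (a * g) ^ (m + 1) = g := by
    rw [pow_succ, hpa, ← mul_assoc, haa, one_mul]
  set ε := fun i => μ i ^ m with hε
  set l := fun i => μ i ^ (m + 1) with hl
  have hεsq : ∀ i, ε i = 1 ∨ ε i = -1 := fun i => by
    have e : ε i * ε i = 1 := by
      have hord : orderOf (a * g) ∣ m * 2 :=
        orderOf_dvd_of_pow_eq_one (by rw [pow_mul, hpa, sq, haa])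
      obtain ⟨c, hc⟩ := hord
      simp only [hε, ← pow_add]
      rw [← mul_two, hc, pow_mul, h1, one_pow]
    exact mul_self_eq_one_iff.mp e
  have hzg : ∀ k, (χ : G → ℂ) (g ^ k) = ∑ i, l i ^ k := fun k => by
    rw [← hρχ]
    conv_lhs => rw [← hpg, ← pow_mul]
    rw [h3]
    exact Finset.sum_congr rfl fun i _ => pow_mul _ _ _
  have hzag : ∀ k, (χ : G → ℂ) (a * g ^ k) = ∑ i, ε i * l i ^ k := fun k => by
    rw [← hρχ]
    conv_lhs => rw [← hpg, ← pow_mul]
    conv_lhs => arg 2; arg 1; rw [← hpa]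
    rw [← pow_add, h3]
    exact Finset.sum_congr rfl fun i _ => by rw [pow_add, pow_mul]
  set Sp := Finset.univ.filter fun i => ε i = 1 with hSp
  set Sm := Finset.univ.filter fun i => ¬ ε i = 1 with hSm
  have hsplit : ∀ (k : ℕ) , (∑ i, l i ^ k) = ∑ i ∈ Sp, l i ^ k + ∑ i ∈ Sm, l i ^ k := fun k =>
    (Finset.sum_filter_add_sum_filter_not _ _ _).symm
  have hsplit' : ∀ (k : ℕ), (∑ i, ε i * l i ^ k) = ∑ i ∈ Sp, l i ^ k - ∑ i ∈ Sm, l i ^ k := fun k => by
    rw [← Finset.sum_filter_add_sum_filter_not Finset.univ (fun i => ε i = 1), sub_eq_add_neg,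
      ← Finset.sum_neg_distrib]
    congr 1
    · exact Finset.sum_congr rfl fun i hi => by rw [(Finset.mem_filter.mp hi).2, one_mul]
    · exact Finset.sum_congr rfl fun i hi => by
        rw [(hεsq i).resolve_left (Finset.mem_filter.mp hi).2, neg_one_mul]
  have hPc : Sp.card = P ∧ Sm.card = P + 1 := by
    have e1 := (hzg 0).trans (hsplit 0)
    have e2 := (hzag 0).trans (hsplit' 0)
    simp only [pow_zero, Finset.sum_const, nsmul_eq_mul, mul_one] at e1 e2
    rw [h.deg_nat, hP] at e1
    rw [h.value_invol ha] at e2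
    have e3 : ((2 * Sp.card : ℕ) : ℂ) = ((2 * P : ℕ) : ℂ) := by
      push_cast at e1 ⊢
      linear_combination (-1 : ℂ) * e1 - e2
    have e4 : 2 * Sp.card = 2 * P := by exact_mod_cast e3
    have e5 : 2 * P + 1 = Sp.card + Sm.card := by exact_mod_cast e1
    omega
  obtain ⟨hcp, hcm⟩ := hPc
  have hzero : ∀ k, g ^ k ∉ Subgroup.center G → (χ : G → ℂ) (g ^ k) = 0 := fun k hk =>
    h.value_odd (hgo.of_dvd_nat (orderOf_pow_dvd _)) (fun hd => hg (hd.trans (orderOf_pow_dvd _))) hk
  by_cases hall : ∀ k, g ^ k ∉ Subgroup.center G → (χ : G → ℂ) (a * g ^ k) = 0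
  · -- both eigenspaces are regular modulo the centre
    have hex : ∃ k, 0 < k ∧ g ^ k ∈ Subgroup.center G :=
      ⟨m, orderOf_pos g, by rw [hgm]; exact one_mem _⟩
    set m0 := Nat.find hex with hm0
    obtain ⟨hm0pos, hm0c⟩ : 0 < m0 ∧ g ^ m0 ∈ Subgroup.center G := Nat.find_spec hex
    obtain ⟨c, hc⟩ := exists_scalar_of_mem_center ρ hm0c
    have hlc : ∀ i, l i ^ m0 = c := fun i => by
      have e := h2 ((m + 1) * m0) i
      rw [pow_mul, hpg, hc, LinearMap.smul_apply, LinearMap.id_apply] at e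
      show (μ i ^ (m + 1)) ^ m0 = c
      rw [← pow_mul]
      exact (smul_left_injective ℂ (bb.ne_zero i) e).symm
    have hl0 : ∀ i, l i ≠ 0 := fun i => pow_ne_zero _ (fun e => by
      have := h1 i
      rw [e, zero_pow (orderOf_pos _).ne'] at this
      exact zero_ne_one this)
    have hdiv : ∀ S : Finset (Fin (Module.finrank ℂ (Fin n → ℂ))), S.Nonempty →
        (∀ k, 0 < k → k < m0 → ∑ i ∈ S, l i ^ k = 0) → m0 ∣ S.card := by
      rintro S ⟨i0, hi0⟩ hz
      have hsum : ∑ k ∈ Finset.range m0, (∑ i ∈ S, l i ^ k) / l i0 ^ k = (S.card : ℂ) := by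
        rw [Finset.sum_eq_single 0]
        · simp
        · intro k hk hk0
          rw [hz k (Nat.pos_of_ne_zero hk0) (Finset.mem_range.mp hk), zero_div]
        · simp [hm0pos]
      simp only [Finset.sum_div, ← div_pow] at hsum
      rw [Finset.sum_comm, Finset.sum_congr rfl
        (g := fun i => if l i = l i0 then (m0 : ℂ) else 0) fun i _ => ?_] at hsum
      · rw [← Finset.sum_filter, Finset.sum_const, nsmul_eq_mul] at hsum
        exact ⟨_, by rw [mul_comm]; exact_mod_cast hsum.symm⟩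
      · split_ifs with e
        · simp [e, div_self (hl0 i0)]
        · refine (geom_sum_eq (fun e' => e ((div_eq_one_iff_eq (hl0 i0)).mp e')) m0).trans ?_
          rw [div_pow, hlc, hlc, div_self, sub_self, zero_div]
          rw [← hlc i0]
          exact pow_ne_zero _ (hl0 i0)
    have hvan : ∀ k, 0 < k → k < m0 → ∑ i ∈ Sp, l i ^ k = 0 ∧ ∑ i ∈ Sm, l i ^ k = 0 := by
      intro k hk hk'
      have hkc : g ^ k ∉ Subgroup.center G := fun hc' => Nat.find_min hex hk' ⟨hk, hc'⟩
      have e1 := ((hzg k).trans (hsplit k)).symm.trans (hzero k hkc)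
      have e2 := ((hzag k).trans (hsplit' k)).symm.trans (hall k hkc)
      exact ⟨by linear_combination (e1 + e2) / 2, by linear_combination (e1 - e2) / 2⟩
    have d1 := hdiv Sp (Finset.card_pos.mp (by omega)) fun k a b => (hvan k a b).1
    have d2 := hdiv Sm (Finset.card_pos.mp (by omega)) fun k a b => (hvan k a b).2
    rw [hcp] at d1
    rw [hcm] at d2
    have hm01 : m0 = 1 := Nat.dvd_one.mp ((Nat.dvd_add_iff_right d1).mpr d2)
    rw [hm01, pow_one] at hm0c
    exact hgz hm0c
  · push Not at hall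
    obtain ⟨k, hk, hne⟩ := hall
    obtain ⟨b, hodd, htwo, hrel⟩ := h.square_rel
    have hd0 : ((2 * P : ℕ) : ℝ) ≠ 0 := by exact_mod_cast (show 2 * P ≠ 0 by omega)
    set g1 := g ^ k with hg1
    have hg1o : Odd (orderOf g1) := hgo.of_dvd_nat (orderOf_pow_dvd _)
    have hg1p : ¬ p ∣ orderOf g1 := fun hd => hg (hd.trans (orderOf_pow_dvd _))
    set r : ℕ → ℝ := fun j => ‖(χ : G → ℂ) (a * g1 ^ 2 ^ j)‖ / ((2 * P : ℕ) : ℝ) with hr
    have hstep : ∀ j, r (j + 1) = r j ^ 2 := by
      intro j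
      set u := g1 ^ 2 ^ j with hu
      have huo : Odd (orderOf u) := hg1o.of_dvd_nat (orderOf_pow_dvd _)
      have hup : ¬ p ∣ orderOf u := fun hd => hg1p (hd.trans (orderOf_pow_dvd _))
      have hcau : Commute a u := (hag.pow_right _).pow_right _
      have hsq : a * u * (a * u) = u * u := by
        rw [hcau.symm.mul_mul_mul_comm, haa, one_mul]
      have hreg : ¬ p ∣ orderOf (a * u) := fun hd => by
        rcases hp.dvd_mul.mp (hd.trans hcau.orderOf_mul_dvd_mul_orderOf) with h' | h'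
        · rw [ha] at h'
          have := Nat.le_of_dvd two_pos h'
          omega
        · exact hup h'
      have huz : u * u ∉ Subgroup.center G := by
        rw [hu, pow_two_pow_succ]
        exact pow_two_pow_not_mem_center hg1o hk _
      have e := hrel (a * u) hreg
      rw [hsq, h.value_odd (by rw [← sq]; exact huo.of_dvd_nat (orderOf_pow_dvd _))
          (fun hd => hup (by rw [← sq] at hd; exact hd.trans (orderOf_pow_dvd _))) huz,
        sub_zero, hcau.mul_pow, htwo a 1 (by rw [ha]; norm_num), hodd u huo hup,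
        show (p : ℂ) - 3 = ((2 * P : ℕ) : ℂ) by
          rw [show 2 * P = p - 3 by omega, Nat.cast_sub (by omega)]; norm_num] at e
      have e' := congrArg (fun c : ℂ => ‖c‖) e
      simp only [norm_mul, Complex.norm_natCast] at e'
      simp only [hr]
      rw [← hu, ← pow_two_pow_succ, ← hu, div_pow, sq, sq, e', mul_div_mul_left _ _ hd0]
    have hper : r (Nat.totient (orderOf g1)) = r 0 := by
      simp only [hr, pow_two_pow_totient hg1o, pow_zero, pow_one]
    have h0 : 0 ≤ r 0 := div_nonneg (norm_nonneg _) (Nat.cast_nonneg _)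
    rcases zero_or_one_of_periodic hstep (Nat.totient_pos.mpr (orderOf_pos g1)) hper h0 with e | e <;>
      simp only [hr, pow_zero, pow_one] at e
    · exact hne (norm_eq_zero.mp ((div_eq_zero_iff.mp e).resolve_right hd0))
    have hnorm : ‖(χ : G → ℂ) (a * g1)‖ = ((2 * P : ℕ) : ℝ) := (div_eq_one_iff_eq hd0).mp e
    have e1 := ((hzg k).trans (hsplit k)).symm.trans (hzero k hk)
    have hk2 : g ^ (k * 2) ∉ Subgroup.center G := by
      rw [pow_mul]
      exact pow_two_pow_not_mem_center hg1o hk 1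
    have e2 := ((hzg (k * 2)).trans (hsplit (k * 2))).symm.trans (hzero _ hk2)
    have e3 := (hzag k).trans (hsplit' k)
    rw [← hg1] at e3
    have hnp : ‖∑ i ∈ Sp, l i ^ k‖ = (Sp.card : ℝ) := by
      have : (χ : G → ℂ) (a * g1) = 2 * ∑ i ∈ Sp, l i ^ k := by linear_combination e3 - e1
      rw [this, norm_mul, Complex.norm_two] at hnorm
      rw [hcp]
      push_cast at hnorm
      linarith
    have hln : ∀ i, ‖l i ^ k‖ = 1 := fun i => by
      rw [hl, norm_pow, norm_pow, norm_eq_one_of_pow_eq_one' (orderOf_pos _).ne' (h1 i), one_pow, one_pow]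
    obtain ⟨i0, hi0⟩ := Finset.card_pos.mp (show 0 < Sp.card by omega)
    set lam := l i0 ^ k with hlam
    have hlam0 : lam ≠ 0 := fun e' => by
      have := hln i0
      rw [← hlam, e', norm_zero] at this
      exact zero_ne_one this
    have hav := eq_of_norm_sum_eq_card Sp (fun i => l i ^ k) (fun i _ => hln i) hnp
    have hconst : ∀ i ∈ Sp, l i ^ k = lam := fun i hi =>
      mul_left_cancel₀ (Nat.cast_ne_zero.mpr (show Sp.card ≠ 0 by omega))
        ((hav i hi).trans (hav i0 hi0).symm)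
    set ν := fun i => l i ^ k / lam with hν
    have hsum1 : ∑ i ∈ Sm, ν i = -(P : ℂ) := by
      rw [Finset.sum_congr rfl hconst, Finset.sum_const, nsmul_eq_mul, hcp] at e1
      rw [← Finset.sum_div, div_eq_iff hlam0]
      linear_combination e1
    have hsum2 : ∑ i ∈ Sm, ν i ^ 2 = -(P : ℂ) := by
      simp only [pow_mul] at e2
      rw [Finset.sum_congr rfl fun i hi => by rw [hconst i hi], Finset.sum_const, nsmul_eq_mul, hcp] at e2
      simp only [hν, div_pow]
      rw [← Finset.sum_div, div_eq_iff (pow_ne_zero _ hlam0)]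
      linear_combination e2
    have hcauchy := sq_sum_le_card_mul_sum_sq (s := Sm) (f := fun i => (ν i).re)
    have hr1 : ∑ i ∈ Sm, (ν i).re = -(P : ℝ) := by
      have := congrArg Complex.re hsum1
      simpa using this
    have hr2 : 2 * ∑ i ∈ Sm, (ν i).re ^ 2 = 1 := by
      have hre : ∀ i, (ν i ^ 2).re = 2 * (ν i).re ^ 2 - 1 := fun i => by
        have hn1 : ‖ν i‖ = 1 := by rw [hν, norm_div, hln, hlam, hln, div_one]
        have hn2 : (ν i).re * (ν i).re + (ν i).im * (ν i).im = 1 := by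
          rw [← Complex.normSq_apply, Complex.normSq_eq_norm_sq, hn1, one_pow]
        rw [sq (ν i), Complex.mul_re]
        linarith
      have := congrArg Complex.re hsum2
      simp only [Complex.re_sum, hre, Finset.sum_sub_distrib, ← Finset.mul_sum, Finset.sum_const,
        hcm, nsmul_eq_mul, mul_one, Complex.neg_re, Complex.natCast_re] at this
      push_cast at this
      linarith
    rw [hr1, hcm] at hcauchy
    have hP2 : (2 : ℝ) ≤ P := by exact_mod_cast (show 2 ≤ P by omega)
    push_cast at hcauchy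
    nlinarith

/-- The centraliser of an involution is abelian. -/
theorem SD.comm_centralizer {a : G} (ha : orderOf a = 2) :
    IsMulCommutative (Subgroup.centralizer ({a} : Set G)) := by
  classical
  have hp : p.Prime := Fact.out
  have hp5 := h.five_lt
  have haa : a * a = 1 := by rw [← sq, ← ha, pow_orderOf_eq_one]
  -- every element is a product of an element of square one and a central one
  have hdec : ∀ g ∈ Subgroup.centralizer ({a} : Set G), ∃ e z : G,
      e * e = 1 ∧ z ∈ Subgroup.center G ∧ g = e * z ∧ e ∈ Subgroup.centralizer ({a} : Set G) := by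
    intro g hg
    have hga : Commute g a := Subgroup.mem_centralizer_singleton_iff.mp hg
    have hgp : ¬ p ∣ orderOf g := fun hd => by
      have hu : orderOf (g ^ (orderOf g / p)) = p :=
        orderOf_pow_orderOf_div (orderOf_pos g).ne' hd
      have hcu : Commute a (g ^ (orderOf g / p)) := hga.symm.pow_right _
      have hord : orderOf (a * g ^ (orderOf g / p)) = 2 * p := by
        rw [hcu.orderOf_mul_eq_mul_orderOf_of_coprime, ha, hu]
        rw [ha, hu]
        exact Nat.coprime_two_left.mpr (hp.odd_of_ne_two (by omega))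
      obtain ⟨c, z, i, hz, -, hcz⟩ := h.sing _ (by rw [hord]; exact dvd_mul_left p 2)
      have e : orderOf (c * (a * g ^ (orderOf g / p)) * c⁻¹) = 2 * p :=
        (MulEquiv.orderOf_eq (MulAut.conj c) _).trans hord
      rw [hcz] at e
      have hzo := (h.center_regular hz).2
      have hxi : Odd (orderOf (x ^ i)) :=
        (h.ord ▸ hp.odd_of_ne_two (by omega) : Odd (orderOf x)).of_dvd_nat (orderOf_pow_dvd _)
      have hodd2 : Odd (orderOf (x ^ i * z)) :=
        (hxi.mul hzo).of_dvd_nat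
          (Commute.orderOf_mul_dvd_mul_orderOf (Subgroup.mem_center_iff.mp hz (x ^ i)))
      rw [e] at hodd2
      exact (Nat.not_odd_iff_even.mpr ⟨p, by ring⟩) hodd2
    obtain ⟨k, o, ho, hko⟩ := Nat.exists_eq_two_pow_mul_odd (orderOf_pos g).ne'
    have hcop : (2 ^ k).Coprime o := (Nat.coprime_two_left.mpr ho).pow_left _
    obtain ⟨u, hu1, hu2⟩ := Nat.chineseRemainder hcop 1 0
    obtain ⟨v, hv1, hv2⟩ := Nat.chineseRemainder hcop 0 1
    have hguv : g = g ^ u * g ^ v := by
      rw [← pow_add]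
      conv_lhs => rw [← pow_one g]
      refine pow_eq_pow_iff_modEq.mpr ?_
      rw [hko, ← Nat.modEq_and_modEq_iff_modEq_mul hcop]
      exact ⟨(hu1.add hv1).symm.trans (by rfl), (hu2.add hv2).symm.trans (by rfl)⟩
    have hu : orderOf (g ^ u) ∣ 2 ^ k := orderOf_dvd_of_pow_eq_one (by
      rw [← pow_mul]
      refine orderOf_dvd_iff_pow_eq_one.mp ?_
      rw [hko, mul_comm (2 ^ k) o]
      exact Nat.mul_dvd_mul (Nat.modEq_zero_iff_dvd.mp hu2) dvd_rfl)
    have hv : orderOf (g ^ v) ∣ o := orderOf_dvd_of_pow_eq_one (by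
      rw [← pow_mul]
      refine orderOf_dvd_iff_pow_eq_one.mp ?_
      rw [hko]
      exact Nat.mul_dvd_mul (Nat.modEq_zero_iff_dvd.mp hv1) dvd_rfl)
    exact ⟨g ^ u, g ^ v, h.sq_eq_one hu,
      h.mem_center_of_commute_invol ha (ho.of_dvd_nat hv)
        (fun hd => hgp (hd.trans (orderOf_pow_dvd _))) (hga.symm.pow_right _),
      hguv, Subgroup.pow_mem _ hg u⟩
  have hinv2 : ∀ e f : G, e * e = 1 → f * f = 1 → e ∈ Subgroup.centralizer ({a} : Set G) →
      f ∈ Subgroup.centralizer ({a} : Set G) → e * f = f * e := by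
    intro e f he hf hec hfc
    obtain ⟨w, z, hw, hz, hwz, -⟩ := hdec _ (mul_mem hec hfc)
    have hzc : ∀ y, y * z = z * y := fun y => Subgroup.mem_center_iff.mp hz y
    have hzic : ∀ y, y * z⁻¹ = z⁻¹ * y := fun y =>
      Subgroup.mem_center_iff.mp (inv_mem hz) y
    have hfe : f * e = w * z⁻¹ := by
      rw [hzic w]
      calc f * e = (e * f)⁻¹ := by
            rw [mul_inv_rev, inv_eq_of_mul_eq_one_right hf, inv_eq_of_mul_eq_one_right he]
        _ = z⁻¹ * w := by rw [hwz, mul_inv_rev, inv_eq_of_mul_eq_one_right hw]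
    -- conjugating by `e`
    have h4 : e * w * e = w * (z⁻¹ * z⁻¹) := by
      have h5 : e * (e * f) * e = f * e := by rw [← mul_assoc e e f, he, one_mul]
      rw [hwz, hfe] at h5
      calc e * w * e = e * (w * z) * e * z⁻¹ := by
            rw [mul_assoc e (w * z) e, mul_assoc w z e, ← hzc e]
            group
        _ = w * (z⁻¹ * z⁻¹) := by rw [h5, mul_assoc]
    have h6 : (z⁻¹ * z⁻¹) * (z⁻¹ * z⁻¹) = 1 := by
      have h7 : (e * w * e) * (e * w * e) = 1 := by
        calc (e * w * e) * (e * w * e) = e * w * (e * e) * w * e := by group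
          _ = 1 := by rw [he, mul_one, mul_assoc e w w, hw, mul_one, he]
      rw [h4, mul_assoc, ← mul_assoc (z⁻¹ * z⁻¹) w,
        ← Subgroup.mem_center_iff.mp (mul_mem (inv_mem hz) (inv_mem hz)) w,
        mul_assoc w (z⁻¹ * z⁻¹), ← mul_assoc, hw, one_mul] at h7
      exact h7
    have hz4 : orderOf z⁻¹ ∣ 4 := orderOf_dvd_of_pow_eq_one (by
      rw [show z⁻¹ ^ 4 = z⁻¹ * z⁻¹ * (z⁻¹ * z⁻¹) by group]; exact h6)
    have hz1 : z⁻¹ = 1 := by
      rw [← orderOf_eq_one_iff]
      have hodd := (h.center_regular (inv_mem hz)).2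
      exact Nat.eq_one_of_dvd_coprimes ((Nat.coprime_two_left.mpr hodd).pow_left 2) hz4 dvd_rfl
    rw [hfe, hz1, mul_one, hwz, inv_eq_one.mp hz1, mul_one]
  refine ⟨⟨fun g g' => Subtype.ext ?_⟩⟩
  obtain ⟨e, z, he, hz, hgz, hec⟩ := hdec _ g.2
  obtain ⟨f, w, hf, hw, hgw, hfc⟩ := hdec _ g'.2
  show (g : G) * g' = g' * g
  rw [hgz, hgw]
  have hzc := Subgroup.mem_center_iff.mp hz
  have hwc := Subgroup.mem_center_iff.mp hw
  calc e * z * (f * w) = e * (z * f) * w := by group
    _ = e * f * (z * w) := by rw [← hzc f]; group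
    _ = f * e * (w * z) := by rw [hinv2 e f he hf hec hfc, hwc z]
    _ = f * (e * w) * z := by group
    _ = f * w * (e * z) := by rw [hwc e]; group

/-- The order of an elementary abelian `2`-subgroup divides `p - 1`. -/
theorem SD.card_dvd (E : Subgroup G) (hE : IsPGroup 2 E) : Nat.card E ∣ p - 1 := by
  classical
  have hp5 := h.five_lt
  have : Fintype E := Fintype.ofFinite _
  obtain ⟨m, hm⟩ := classInner_isCharacter (isCharacter_comp (isCharacter_irr χ) E.subtype)
    (isCharacter_of_isIrr (isIrrCharacter_one (G := E)))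
  have hval : ∀ e : E, e ≠ 1 → (χ : G → ℂ) (e : G) = -1 := by
    intro e he
    obtain ⟨k, hk⟩ := IsPGroup.iff_orderOf.mp hE e
    have hsq := h.sq_eq_one (g := (e : G)) (k := k) (by rw [Subgroup.orderOf_coe, hk])
    exact h.value_invol (orderOf_eq_prime (by rw [sq]; exact hsq) (by simpa using he))
  simp only [classInner, map_one, mul_one, Subgroup.subtype_apply] at hm
  rw [← Finset.add_sum_erase _ _ (Finset.mem_univ (1 : E)),
    Finset.sum_congr rfl fun e he => hval e (Finset.ne_of_mem_erase he), Finset.sum_const,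
    Finset.card_erase_of_mem (Finset.mem_univ _), Finset.card_univ,
    nsmul_eq_mul, OneMemClass.coe_one, h.deg, Nat.card_eq_fintype_card] at hm
  have hE0 : (Fintype.card E : ℂ) ≠ 0 := Nat.cast_ne_zero.mpr Fintype.card_ne_zero
  rw [inv_mul_eq_iff_eq_mul₀ hE0, Nat.cast_sub Fintype.card_pos] at hm
  have e : ((Fintype.card E * (m + 1) : ℕ) : ℂ) = ((p - 1 : ℕ) : ℂ) := by
    rw [Nat.cast_sub (by omega : 1 ≤ p)]
    push_cast at hm ⊢
    linear_combination -hm
  rw [Nat.card_eq_fintype_card]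
  exact ⟨m + 1, by exact_mod_cast e.symm⟩

end CfsgLib.Char.DegreePSubTwo
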