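import Cfsg.Agent.Lib.Char.DegreePSubTwo.Shape
import Cfsg.Agent.Lib.Char.DegreePSubTwo.Involution
import Cfsg.Agent.Lib.Char.LinearSylow
import Cfsg.Agent.Lib.Invol.AbelianCent.Main
import Mathlib.LinearAlgebra.Determinant
import Mathlib.GroupTheory.Transfer

/-!
# Groups with a faithful character of degree `p - 2`

If a Sylow subgroup of order `p > 5` is not normal and the degree of a faithful irreducible
character is `p - 2`, then `p = 2^a + 1` and `G ≅ SL(2, 2^a) × Z(G)`.
-/

open Finset
open scoped ComplexConjugate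

set_option autoImplicit false
set_option linter.unusedSectionVars false

namespace CfsgLib.Char.DegreePSubTwo

open Cfsg CfsgLib.Char CfsgLib.Block CfsgLib.Block.Cyclic

universe u

/-- The data obtained from the block of a character of degree `p - 2`. -/
structure Pre {p : ℕ} {G : Type u} [Group G] (χ : IrrCharacter G) (x : G) (ω : ℂ) : Prop where
  ord : orderOf x = p
  prim : IsPrimitiveRoot ω p
  val : ∀ i : ℕ, ¬ p ∣ i → (χ : G → ℂ) (x ^ i) = -(ω ^ i + ω⁻¹ ^ i)
  sing : ∀ g : G, p ∣ orderOf g → ∃ (c z : G) (i : ℕ),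
    z ∈ Subgroup.center G ∧ ¬ p ∣ i ∧ c * g * c⁻¹ = x ^ i * z
  cent : ∀ g : G, Commute g x → ∃ (i : ℕ) (z : G), z ∈ Subgroup.center G ∧ g = x ^ i * z
  center_reg : ¬ p ∣ Nat.card (Subgroup.center G)
  inv : ∃ n : G, n * x * n⁻¹ = x⁻¹

variable {p : ℕ} [Fact p.Prime] {G : Type u} [Group G] [Fintype G]

theorem exists_pre (hp5 : 5 < p) (hdvd : p ∣ Nat.card G) (hsq : ¬ p ^ 2 ∣ Nat.card G)
    (hnn : ∀ Q : Subgroup G, Nat.card Q = p → ¬ Q.Normal) (χ : IrrCharacter G)
    (hdeg : charDegree (χ : G → ℂ) = p - 2)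
    (hfaith : ∀ g : G, (χ : G → ℂ) g = (χ : G → ℂ) 1 → g = 1) :
    ∃ (x : G) (ω : ℂ), Pre (p := p) χ x ω := by
  classical
  have hp : p.Prime := Fact.out
  obtain ⟨M, hM⟩ := exists_pModular hp
  have := hM.2.1
  have := Fintype.ofFinite (IrrCharacter G)
  have hB : IsPBlock M (blockOf M (χ : G → ℂ)) := isPBlock_blockOf χ
  have hd : 0 < blockDefect p (blockOf M (χ : G → ℂ)) := by
    have hndvd : ¬ p ∣ charDegree (χ : G → ℂ) := fun hh => by
      have := Nat.le_of_dvd (by omega) hh
      omega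
    have hmin : sInf ((fun χ : IrrCharacter G => (charDegree (χ : G → ℂ)).factorization p) ''
        blockOf M (χ : G → ℂ)) = 0 :=
      Nat.le_zero.mp ((Nat.sInf_le (show (charDegree (χ : G → ℂ)).factorization p ∈
        (fun χ : IrrCharacter G => (charDegree (χ : G → ℂ)).factorization p) '' blockOf M (χ : G → ℂ) from
        ⟨χ, self_mem_blockOf χ, rfl⟩)).trans (Nat.factorization_eq_zero_of_not_dvd hndvd).le)
    rw [blockDefect, hmin, Nat.sub_zero]
    exact hp.factorization_pos_of_dvd Nat.card_pos.ne' hdvd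
  obtain ⟨D, hDK, hBD⟩ := CycSetup.exists_of_defect_pos hM hsq hB hd
  let _ : Fintype (Subgroup.centralizer (D.Q : Set G)) := Fintype.ofFinite _
  have hnc : ∀ i : ZMod p, i ≠ 0 → D.xp i ∉ Subgroup.center G := by
    intro i hi hc
    refine hnn D.Q D.hQ ⟨fun u hu g => ?_⟩
    have hz : Subgroup.zpowers (D.xp i) = D.Q := Subgroup.eq_of_le_of_card_ge
      (Subgroup.zpowers_le.mpr (D.xp_mem i))
      (by rw [D.hQ, Nat.card_zpowers, orderOf_eq_p D.hQ (D.xp_mem i) (D.xp_ne_one hi)])
    have hu' : u ∈ Subgroup.center G := (hz ▸ Subgroup.zpowers_le.mpr hc) hu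
    rw [Subgroup.mem_center_iff.mp hu' g, mul_inv_cancel_right]
    exact hu
  obtain ⟨j₀, hj₀, hK, hval, hinv⟩ :=
    cycShape D hM hBD (self_mem_blockOf χ) hp5 hdeg hfaith hnc
  have hω1 : stdPsi p j₀ ≠ 1 := fun h1 => by
    have := stdPsi_primitive p hj₀
    apply this
    refine DFunLike.ext _ _ fun j => ?_
    rw [AddChar.mulShift_apply, AddChar.one_apply, ← ZMod.natCast_zmod_val j, mul_comm, ← nsmul_eq_mul,
      AddChar.map_nsmul_eq_pow, h1, one_pow]
  refine ⟨D.x, stdPsi p j₀, D.orderOf_x, ?_, fun i hi => ?_, fun g hg => ?_, fun g hg => ?_,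
    fun hd' => ?_, hinv⟩
  · rw [IsPrimitiveRoot.iff_orderOf]
    exact orderOf_eq_prime (stdPsi_pow p j₀) hω1
  · have hi0 : (i : ZMod p) ≠ 0 := by rwa [Ne, ZMod.natCast_eq_zero_iff]
    rw [D.pow_eq_xp, hval _ hi0, ← AddChar.map_neg_eq_inv, ← nsmul_eq_mul, ← AddChar.map_nsmul_eq_pow,
      ← AddChar.map_nsmul_eq_pow, smul_neg]
  · obtain ⟨c, i, y, hi, hgy⟩ := D.exists_section_conj hg
    refine ⟨c, y, i.val, hK y.2, fun hd' => hi ?_, ?_⟩
    · rw [← ZMod.natCast_zmod_val i, ZMod.natCast_eq_zero_iff]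
      exact hd'
    · exact hgy
  · have hgC : g ∈ D.C := (mem_centralizer_iff_commute D.hQ D.hx D.hx1 g).mpr hg
    obtain ⟨i, hi⟩ := D.exists_xp_mul_proj ⟨g, hgC⟩
    exact ⟨i.val, _, hK (D.proj ⟨g, hgC⟩).2, hi⟩
  · obtain ⟨z, hz⟩ := exists_prime_orderOf_dvd_card' p hd'
    obtain ⟨c, i, y, hi, hgy⟩ := D.exists_section_conj (g := (z : G)) (by rw [Subgroup.orderOf_coe, hz])
    refine hnc i hi ?_
    have e : D.xp i = (z : G) * (y : G)⁻¹ := by
      rw [eq_mul_inv_iff_mul_eq, ← hgy, Subgroup.mem_center_iff.mp z.2 c, mul_inv_cancel_right]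
    rw [e]
    exact mul_mem z.2 (inv_mem (hK y.2))

section NormalTwo

variable {χ : IrrCharacter G} {x : G} {ω : ℂ}

/-- A Sylow `2`-subgroup of order two is impossible. -/
theorem SD.card_sylow_ne_two (h : SD p χ x ω)
    (hnn : ∀ Q : Subgroup G, Nat.card Q = p → ¬ Q.Normal) (T : Sylow 2 G) {a : G}
    (ha : orderOf a = 2) : Nat.card T ≠ 2 := by
  classical
  have : Fact (Nat.Prime 2) := ⟨Nat.prime_two⟩
  have hp : p.Prime := Fact.out
  have hp5 := h.five_lt
  intro h2
  have hcyc : IsCyclic T := isCyclic_of_prime_card h2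
  have hmin : (Nat.card G).minFac = 2 := by
    rw [Nat.minFac_eq_two_iff, ← ha]
    exact orderOf_dvd_natCard a
  have hcomp := MonoidHom.ker_transferSylow_isComplement' T (hcyc.normalizer_le_centralizer hmin)
  set K := (MonoidHom.transferSylow T (hcyc.normalizer_le_centralizer hmin)).ker with hK
  have hKodd : Odd (Nat.card K) := by
    have h1 := hcomp.symm.index_eq_card
    rw [h2] at h1
    have h3 := K.card_mul_index
    rw [h1] at h3
    rw [Nat.odd_iff]
    by_contra hc
    have h4 : 2 ^ 2 ∣ Nat.card G := by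
      rw [← h3, pow_two]
      exact Nat.mul_dvd_mul_right (Nat.dvd_of_mod_eq_zero (by omega)) 2
    obtain ⟨k, hk⟩ := h4
    have h5 := T.card_eq_multiplicity
    rw [h2] at h5
    have h6 : (Nat.card G).factorization 2 = 1 :=
      (Nat.pow_eq_self_iff (show 1 < 2 by omega)).mp h5.symm
    have h7 := (Nat.prime_two.pow_dvd_iff_le_factorization Nat.card_pos.ne').mp ⟨k, hk⟩
    omega
  have hidx : K.index = 2 := by rw [hcomp.symm.index_eq_card, h2]
  have hxK : ∀ y : G, orderOf y = p → y ∈ K := by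
    intro y hy
    have h1 := K.pow_index_mem y
    rw [hidx] at h1
    obtain ⟨m, hm⟩ := exists_pow_eq_self_of_coprime (x := y) (n := 2)
      (by rw [hy]; exact Nat.coprime_two_left.mpr (hp.odd_of_ne_two (by omega)))
    exact hm ▸ K.pow_mem h1 m
  have haa : a * a = 1 := by rw [← sq, ← ha, pow_orderOf_eq_one]
  have hainv : a⁻¹ = a := inv_eq_of_mul_eq_one_right haa
  have haK : a ∉ K := fun hk => by
    have := (orderOf_dvd_natCard (⟨a, hk⟩ : K))
    rw [Subgroup.orderOf_mk, ha] at this
    exact Nat.not_even_iff_odd.mpr hKodd (even_iff_two_dvd.mpr this)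
  have hKN : K.Normal := MonoidHom.normal_ker _
  -- the commutator map
  set φ : G → G := fun k => k * a * k⁻¹ * a with hφ
  have hφinv : ∀ k, a * φ k * a = (φ k)⁻¹ := fun k => by
    simp only [hφ, mul_inv_rev, inv_inv, hainv]
    calc a * (k * a * k⁻¹ * a) * a = a * k * a * k⁻¹ * (a * a) := by group
      _ = a * (k * (a * k⁻¹)) := by rw [haa]; group
  have hφK : ∀ k ∈ K, φ k ∈ K := fun k hk => by
    show k * a * k⁻¹ * a ∈ K
    rw [show k * a * k⁻¹ * a = k * (a * k⁻¹ * a) by group]
    refine mul_mem hk ?_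
    have := hKN.conj_mem _ (inv_mem hk) a
    rwa [hainv] at this
  have hcentK : ∀ k ∈ K, Commute a k → k ∈ Subgroup.center G := fun k hk hc => by
    have hko : Odd (orderOf k) := by
      have := orderOf_dvd_natCard (⟨k, hk⟩ : K)
      rw [Subgroup.orderOf_mk] at this
      exact hKodd.of_dvd_nat this
    refine h.mem_center_of_commute_invol ha hko (fun hd => ?_) hc
    have hu : orderOf (k ^ (orderOf k / p)) = p := orderOf_pow_orderOf_div (orderOf_pos k).ne' hd
    obtain ⟨c, z, i, hz, -, hcz⟩ := h.sing (a * k ^ (orderOf k / p)) (by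
      rw [(hc.pow_right _).orderOf_mul_eq_mul_orderOf_of_coprime (by
        rw [ha, hu]; exact Nat.coprime_two_left.mpr (hp.odd_of_ne_two (by omega))), hu]
      exact dvd_mul_left p _)
    refine haK ?_
    have hxi : x ^ i * z ∈ K := by
      refine mul_mem (K.pow_mem (hxK x h.ord) i) ?_
      have hzo := (h.center_regular hz).2
      obtain ⟨m, hm⟩ := exists_pow_eq_self_of_coprime (x := z) (n := 2) (Nat.coprime_two_left.mpr hzo)
      exact hm ▸ K.pow_mem (hidx ▸ K.pow_index_mem z) m
    have h1 : a * k ^ (orderOf k / p) ∈ K := by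
      have := hKN.conj_mem _ (hcz ▸ hxi) c⁻¹
      rwa [inv_inv, show c⁻¹ * (c * (a * k ^ (orderOf k / p)) * c⁻¹) * c =
        a * k ^ (orderOf k / p) by group] at this
    exact (K.mul_mem_cancel_right (K.pow_mem hk _)).mp h1
  set Z := (Subgroup.center G).subgroupOf K with hZ
  have hwell : ∀ k l : K, (k⁻¹ * l : K) ∈ Z → φ k = φ l := by
    intro k l hkl
    have hzc := Subgroup.mem_center_iff.mp (Subgroup.mem_subgroupOf.mp hkl)
    simp only [Subgroup.coe_mul, Subgroup.coe_inv] at hzc
    show (k : G) * a * (k : G)⁻¹ * a = (l : G) * a * (l : G)⁻¹ * a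
    rw [show (l : G) = k * ((k : G)⁻¹ * l) by group, mul_inv_rev]
    calc (k : G) * a * (k : G)⁻¹ * a
        = k * (a * ((k : G)⁻¹ * l)) * (((k : G)⁻¹ * l)⁻¹ * (k : G)⁻¹) * a := by group
      _ = _ := by rw [hzc a]; group
  let ψ : K ⧸ Z → K ⧸ Z := Quotient.lift (fun k : K => ((⟨φ k, hφK k k.2⟩ : K) : K ⧸ Z))
    fun k l hkl => congrArg QuotientGroup.mk (Subtype.ext (hwell k l (QuotientGroup.leftRel_apply.mp hkl)))
  have hinj : Function.Injective ψ := by
    intro u v huv
    obtain ⟨k, rfl⟩ := QuotientGroup.mk_surjective u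
    obtain ⟨l, rfl⟩ := QuotientGroup.mk_surjective v
    have hz : (φ k)⁻¹ * φ l ∈ Subgroup.center G := by
      have := QuotientGroup.eq.mp huv
      rwa [Subgroup.mem_subgroupOf] at this
    -- the difference is inverted and fixed
    set z := (φ k)⁻¹ * φ l with hzdef
    have hl : φ l = φ k * z := by rw [hzdef, mul_inv_cancel_left]
    have e : a * (φ k * z) * a = (φ k * z)⁻¹ := hl ▸ hφinv l
    rw [show a * (φ k * z) * a = a * φ k * a * z by
      rw [show a * (φ k * z) * a = a * φ k * (z * a) by group,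
        ← Subgroup.mem_center_iff.mp hz a]
      group, hφinv] at e
    · have hz2 : z * z = 1 := by
        have := mul_left_cancel (a := (φ k)⁻¹) (b := z) (c := z⁻¹) (e.trans (by
          rw [Subgroup.mem_center_iff.mp hz (φ k)]
          exact mul_inv_rev _ _))
        rw [mul_eq_one_iff_eq_inv]
        exact this
      have hz1 : z = 1 := by
        rw [← orderOf_eq_one_iff]
        have hzo := (h.center_regular hz).2
        exact Nat.eq_one_of_dvd_coprimes (Nat.coprime_two_left.mpr hzo)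
          (orderOf_dvd_of_pow_eq_one (by rw [sq]; exact hz2)) dvd_rfl
      rw [hz1, mul_one] at hl
      rw [QuotientGroup.eq, Subgroup.mem_subgroupOf]
      refine hcentK _ ((k⁻¹ * l : K)).2 ?_
      show a * ((k : G)⁻¹ * l) = (k : G)⁻¹ * l * a
      have e2 : (l : G) * a * (l : G)⁻¹ = k * a * (k : G)⁻¹ := by
        simp only [hφ] at hl
        exact mul_right_cancel hl
      calc a * ((k : G)⁻¹ * l) = (k : G)⁻¹ * (k * a * (k : G)⁻¹) * l := by group
        _ = (k : G)⁻¹ * l * a := by rw [← e2]; group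
  have hsurj := Finite.surjective_of_injective hinj
  have hkey : ∀ k ∈ K, a * k * a * k ∈ Subgroup.center G := by
    intro k hk
    obtain ⟨u, hu⟩ := hsurj ((⟨k, hk⟩ : K) : K ⧸ Z)
    obtain ⟨l, rfl⟩ := QuotientGroup.mk_surjective u
    have hz : (φ l)⁻¹ * k ∈ Subgroup.center G := by
      have := QuotientGroup.eq.mp hu
      rwa [Subgroup.mem_subgroupOf] at this
    set z := (φ l)⁻¹ * k with hzdef
    have hkl : k = φ l * z := by rw [hzdef, mul_inv_cancel_left]
    have hzc : ∀ y, y * z = z * y := Subgroup.mem_center_iff.mp hz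
    rw [hkl, show a * (φ l * z) * a * (φ l * z) = a * φ l * (z * a) * φ l * z by group, ← hzc a,
      show a * φ l * (a * z) * φ l * z = a * φ l * a * (z * φ l) * z by group, ← hzc (φ l), hφinv,
      show (φ l)⁻¹ * (φ l * z) * z = z * z by group]
    exact mul_mem hz hz
  -- so `K` is nilpotent of class two, and `Q` is normal
  have hcomm : ∀ k ∈ K, ∀ l ∈ K, k⁻¹ * l⁻¹ * k * l ∈ Subgroup.center G := by
    intro k hk l hl
    have e1 := hkey k hk
    have e2 := hkey l hl
    have e3 := hkey _ (mul_mem hk hl)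
    set z1 := a * k * a * k with hz1
    set z2 := a * l * a * l with hz2
    have h1 : a * k * a = z1 * k⁻¹ := by rw [hz1, mul_inv_cancel_right]
    have h2' : a * l * a = z2 * l⁻¹ := by rw [hz2, mul_inv_cancel_right]
    have h3 : a * (k * l) * a = z1 * z2 * (k⁻¹ * l⁻¹) := by
      calc a * (k * l) * a = a * k * (a * a) * l * a := by rw [haa]; group
        _ = a * k * a * (a * l * a) := by group
        _ = z1 * (k⁻¹ * z2) * l⁻¹ := by rw [h1, h2']; group
        _ = _ := by rw [Subgroup.mem_center_iff.mp e2 k⁻¹]; group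
    rw [h3] at e3
    have h4 : z1 * z2 * (k⁻¹ * l⁻¹) * (k * l) = (z1 * z2) * (k⁻¹ * l⁻¹ * k * l) := by group
    rw [h4] at e3
    exact ((Subgroup.center G).mul_mem_cancel_left (mul_mem e1 e2)).mp e3
  have hfix : ∀ (k : G) (y : G), orderOf y = p → k ∈ K → k * y = y * k := by
    intro k y hy hk
    have hc := hcomm k hk y (hxK y hy)
    set w := k⁻¹ * y⁻¹ * k * y with hw
    have e : k⁻¹ * y⁻¹ * k = w * y⁻¹ := by rw [hw, mul_inv_cancel_right]
    have hwp : w ^ p = 1 := by
      have e' := congrArg (fun u => u ^ p) e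
      have hy1 : y⁻¹ ^ p = 1 := by rw [inv_pow, ← hy, pow_orderOf_eq_one, inv_one]
      have hcp := conj_pow (i := p) (a := k⁻¹) (b := y⁻¹)
      rw [inv_inv] at hcp
      simp only [hcp, hy1, (Commute.symm (Subgroup.mem_center_iff.mp hc y⁻¹) : Commute w y⁻¹).mul_pow,
        mul_one, inv_mul_cancel] at e'
      exact e'.symm
    have hw1 : w = 1 := by
      rw [← orderOf_eq_one_iff]
      exact ((Nat.dvd_prime hp).mp (orderOf_dvd_of_pow_eq_one hwp)).resolve_right
        fun h' => (h.center_regular hc).1 (dvd_of_eq h'.symm)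
    rw [hw1, one_mul] at e
    have e2 : k⁻¹ * y * k = y := by
      have := congrArg (·⁻¹) e
      simpa [mul_assoc] using this
    calc k * y = k * (k⁻¹ * y * k) := by rw [e2]
      _ = y * k := by group
  refine hnn (Subgroup.zpowers x) (by rw [Nat.card_zpowers, h.ord]) ?_
  have hmem : ∀ y : G, orderOf y = p → y ∈ Subgroup.zpowers x := by
    intro y hy
    have hQp : IsPGroup p (Subgroup.zpowers x) :=
      IsPGroup.of_card (n := 1) (by rw [Nat.card_zpowers, h.ord, pow_one])
    have hRp : IsPGroup p (Subgroup.zpowers y) :=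
      IsPGroup.of_card (n := 1) (by rw [Nat.card_zpowers, hy, pow_one])
    have hle : Subgroup.zpowers y ≤ Subgroup.normalizer (Subgroup.zpowers x : Set G) := by
      refine le_trans ?_ (centralizer_le_normalizer' _)
      rw [Subgroup.zpowers_le, Subgroup.mem_centralizer_iff]
      rintro u ⟨i, rfl⟩
      exact ((show Commute x y from hfix x y hy (hxK x h.ord)).zpow_left i).eq
    obtain ⟨j, hj⟩ := IsPGroup.iff_card.mp (IsPGroup.to_sup_of_normal_left' hQp hRp hle)
    have hj1 : j ≤ 1 := by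
      by_contra hlt
      exact h.not_sq ((pow_dvd_pow p (show 2 ≤ j by omega)).trans
        (hj ▸ Subgroup.card_subgroup_dvd_card _))
    have heq : Subgroup.zpowers x = Subgroup.zpowers x ⊔ Subgroup.zpowers y :=
      Subgroup.eq_of_le_of_card_ge le_sup_left (by
        rw [hj, Nat.card_zpowers, h.ord]
        exact (Nat.pow_le_pow_right hp.pos hj1).trans (pow_one p).le)
    exact heq ▸ Subgroup.mem_sup_right (Subgroup.mem_zpowers y)
  constructor
  intro u hu g
  rcases eq_or_ne u 1 with rfl | hu1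
  · simp
  refine hmem _ ((MulEquiv.orderOf_eq (MulAut.conj g) u).trans ?_)
  exact orderOf_eq_p (by rw [Nat.card_zpowers, h.ord]) hu hu1

end NormalTwo

theorem isIrr_of_sup_center (χ : IrrCharacter G) (H : Subgroup G) [H.Normal]
    (hirr : IsIrrCharacter (H ⊔ Subgroup.center G : Subgroup G) fun l => (χ : G → ℂ) (l : G)) :
    IsIrrCharacter H fun l => (χ : G → ℂ) (l : G) := by
  set L := H ⊔ Subgroup.center G
  obtain ⟨n, σ, hσ, hσχ⟩ := hirr
  let i : H →* L := Subgroup.inclusion le_sup_left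
  refine ⟨n, σ.comp i, ?_, ?_⟩
  swap
  · funext l
    exact congrFun hσχ (i l)
  have hL : ∀ (S : Subrepresentation (σ.comp i)) (l : L), ∀ v ∈ S.toSubmodule,
      σ l v ∈ S.toSubmodule := by
    rintro S ⟨l, hl⟩ v hv
    obtain ⟨hh, hhm, z, hz, rfl⟩ := Subgroup.mem_sup_of_normal_left.mp hl
    have hzL : z ∈ L := Subgroup.mem_sup_right hz
    have hzc : (⟨z, hzL⟩ : L) ∈ Subgroup.center L :=
      Subgroup.mem_center_iff.mpr fun y => Subtype.ext (Subgroup.mem_center_iff.mp hz y)
    obtain ⟨c, hc⟩ := exists_scalar_of_mem_center σ hzc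
    rw [show (⟨hh * z, hl⟩ : L) = i ⟨hh, hhm⟩ * ⟨z, hzL⟩ from rfl, map_mul, Module.End.mul_apply, hc,
      LinearMap.smul_apply, LinearMap.id_apply, map_smul]
    exact S.toSubmodule.smul_mem c (S.apply_mem_toSubmodule ⟨hh, hhm⟩ hv)
  have hnt : Nontrivial (Fin n → ℂ) := nontrivial_of_irreducible σ
  refine { exists_pair_ne := ⟨⊥, ⊤, fun e => ?_⟩, eq_bot_or_eq_top := fun S => ?_ }
  · have := congrArg Subrepresentation.toSubmodule e
    exact bot_ne_top (α := Submodule ℂ (Fin n → ℂ)) this
  · let S' : Subrepresentation σ := ⟨S.toSubmodule, fun l v hv => hL S l v hv⟩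
    rcases hσ.eq_bot_or_eq_top S' with e | e
    · exact Or.inl (Subrepresentation.toSubmodule_injective
        (show S.toSubmodule = (⊥ : Submodule ℂ (Fin n → ℂ)) from
          congrArg Subrepresentation.toSubmodule (show S' = ⊥ from e)))
    · exact Or.inr (Subrepresentation.toSubmodule_injective
        (show S.toSubmodule = (⊤ : Submodule ℂ (Fin n → ℂ)) from
          congrArg Subrepresentation.toSubmodule (show S' = ⊤ from e)))

theorem sl2_center_eq_bot {K : Type*} [Field K] [CharP K 2] :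
    Subgroup.center (Matrix.SpecialLinearGroup (Fin 2) K) = ⊥ := by
  rw [Subgroup.eq_bot_iff_forall]
  intro A hA
  obtain ⟨r, hr, hrA⟩ := Matrix.SpecialLinearGroup.mem_center_iff.1 hA
  have hr1 : r = 1 := by
    rw [Fintype.card_fin] at hr
    have h4 : (r - 1) * (r - 1) = 0 := by
      linear_combination hr + (1 - r) * (CharTwo.two_eq_zero : (2 : K) = 0)
    exact sub_eq_zero.1 (mul_self_eq_zero.1 h4)
  exact Subtype.ext (by rw [← hrA, hr1, map_one]; rfl)

/-- The theorem. -/
theorem classify (hp5 : 5 < p) (hdvd : p ∣ Nat.card G) (hsq : ¬ p ^ 2 ∣ Nat.card G)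
    (hnn : ∀ Q : Subgroup G, Nat.card Q = p → ¬ Q.Normal) (χ : IrrCharacter G)
    (hdeg : charDegree (χ : G → ℂ) = p - 2)
    (hfaith : ∀ g : G, (χ : G → ℂ) g = (χ : G → ℂ) 1 → g = 1) :
    ∃ (a : ℕ) (F : Type) (_ : Field F) (_ : Fintype F), p = 2 ^ a + 1 ∧ Fintype.card F = 2 ^ a ∧
      Nonempty (G ≃* Matrix.SpecialLinearGroup (Fin 2) F × Subgroup.center G) := by
  classical
  have hp : p.Prime := Fact.out
  have : Fact (Nat.Prime 2) := ⟨Nat.prime_two⟩
  obtain ⟨x, ω, hG⟩ := exists_pre hp5 hdvd hsq hnn χ hdeg hfaith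
  obtain ⟨n, ρ, hρ, hρχ⟩ := χ.2
  have hfr : Module.finrank ℂ (Fin n → ℂ) = p - 2 := by
    rw [← hdeg, ← hρχ]; simp [charDegree, Representation.char_one]
  let δ : G →* ℂ := (LinearMap.det : Module.End ℂ (Fin n → ℂ) →* ℂ).comp ρ
  set H := δ.ker with hH
  have hHN : H.Normal := MonoidHom.normal_ker _
  -- the elements of order `p` have determinant one
  have hxH : x ∈ H := by
    obtain ⟨m, hm⟩ := hG.inv
    rw [hH, MonoidHom.mem_ker]
    have h1 : δ x ^ p = 1 := by rw [← map_pow, ← hG.ord, pow_orderOf_eq_one, map_one]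
    have h2 : δ x ^ 2 = 1 := by
      have e := congrArg δ hm
      rw [map_mul, map_mul, mul_comm (δ m) (δ x), mul_assoc, ← map_mul δ m, mul_inv_cancel, map_one,
        mul_one] at e
      rw [sq]
      nth_rw 2 [e]
      rw [← map_mul, mul_inv_cancel, map_one]
    rw [← orderOf_eq_one_iff]
    exact Nat.eq_one_of_dvd_coprimes (Nat.coprime_two_left.mpr (hp.odd_of_ne_two (by omega)))
      (orderOf_dvd_of_pow_eq_one h2) (orderOf_dvd_of_pow_eq_one h1)
  have hnormal_le : ∀ Q : Subgroup G, Nat.card Q = p → Q ≤ H := by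
    intro Q hQ u hu
    rcases eq_or_ne u 1 with rfl | hu1
    · exact one_mem _
    obtain ⟨c, z, i, hz, -, hcz⟩ := hG.sing u (dvd_of_eq (orderOf_eq_p hQ hu hu1).symm)
    have hz1 : z = 1 := by
      have e : (c * u * c⁻¹) ^ p = 1 := by
        rw [conj_pow, ← orderOf_eq_p hQ hu hu1, pow_orderOf_eq_one, mul_one, mul_inv_cancel]
      rw [hcz, (show Commute (x ^ i) z from Subgroup.mem_center_iff.mp hz (x ^ i)).mul_pow, ← pow_mul,
        mul_comm i p, pow_mul, ← hG.ord, pow_orderOf_eq_one, one_pow, one_mul, hG.ord] at e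
      rw [← orderOf_eq_one_iff]
      rcases hp.eq_one_or_self_of_dvd _ (orderOf_dvd_of_pow_eq_one e) with h1 | h1
      · exact h1
      · have hd := orderOf_dvd_natCard (⟨z, hz⟩ : Subgroup.center G)
        rw [Subgroup.orderOf_mk, h1] at hd
        exact absurd hd hG.center_reg
    rw [hz1, mul_one] at hcz
    have : u = c⁻¹ * x ^ i * c⁻¹⁻¹ := by rw [← hcz]; group
    rw [this]
    exact hHN.conj_mem _ (H.pow_mem hxH i) _
  set Q := Subgroup.zpowers x with hQdef
  have hQc : Nat.card Q = p := by rw [Nat.card_zpowers, hG.ord]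
  have hQH : Q ≤ H := Subgroup.zpowers_le.mpr hxH
  have hfactor : p ∣ Nat.card H ∧ ¬ p ^ 2 ∣ Nat.card H :=
    ⟨hQc ▸ Subgroup.card_dvd_of_le hQH, fun h => hsq (h.trans (Subgroup.card_subgroup_dvd_card H))⟩
  -- Frattini argument
  have hQsyl : Nat.card (Q.subgroupOf H) = p ^ (Nat.card H).factorization p := by
    rw [Nat.card_congr (Subgroup.subgroupOfEquivOfLe hQH).toEquiv, hQc,
      factorization_eq_one hfactor.1 hfactor.2, pow_one]
  have hfrat := Sylow.normalizer_sup_eq_top (Sylow.ofCard (Q.subgroupOf H) hQsyl)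
  rw [Sylow.coe_ofCard, Subgroup.map_subgroupOf_eq_of_le hQH] at hfrat
  set L := H ⊔ Subgroup.center G with hLdef
  obtain ⟨m, hm⟩ := hG.inv
  have hCL : ∀ g : G, Commute g x → g ∈ L := by
    intro g hg
    obtain ⟨i, z, hz, rfl⟩ := hG.cent g hg
    exact mul_mem (Subgroup.mem_sup_left (H.pow_mem hxH i)) (Subgroup.mem_sup_right hz)
  have hNL : ∀ g ∈ Subgroup.normalizer (Q : Set G), g ∈ L ∨ m * g ∈ L := by
    intro g hg
    obtain ⟨j, hj⟩ := (mem_powers_iff_mem_zpowers (x := x)).mpr
      ((Subgroup.mem_normalizer_iff.mp hg x).mp (Subgroup.mem_zpowers x))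
    simp only at hj
    have hjp : ¬ p ∣ j := fun hd => by
      have : g * x * g⁻¹ = 1 := by
        rw [← hj]
        exact orderOf_dvd_iff_pow_eq_one.mp (hG.ord ▸ hd)
      have := conj_eq_one_iff.mp this
      rw [← orderOf_eq_one_iff, hG.ord] at this
      exact hp.ne_one this
    have e := isClassFunction_irr χ x g
    rw [← hj, hG.val j hjp] at e
    conv_rhs at e => rw [← pow_one x, hG.val 1 hp.not_dvd_one, pow_one, pow_one]
    have hω0 : ω ≠ 0 := hG.prim.ne_zero hp.ne_zero
    have hA : ω ^ j ≠ 0 := pow_ne_zero _ hω0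
    have h2 : (ω ^ j - ω) * (ω ^ j * ω - 1) = 0 := by
      rw [neg_inj, inv_pow] at e
      field_simp at e
      linear_combination e
    rcases mul_eq_zero.mp h2 with h3 | h3
    · left
      refine hCL g ?_
      have h4 : ω ^ j = ω ^ 1 := by rw [pow_one]; exact sub_eq_zero.mp h3
      have h5 : j ≡ 1 [MOD p] := by
        have e1 := pow_eq_pow_mod j hG.prim.pow_eq_one
        show j % p = 1 % p
        rw [Nat.mod_eq_of_lt hp.one_lt]
        exact hG.prim.pow_inj (Nat.mod_lt _ hp.pos) hp.one_lt (e1.symm.trans h4)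
      have h6 : x ^ j = x := by
        conv_rhs => rw [← pow_one x]
        exact pow_eq_pow_iff_modEq.mpr (hG.ord.symm ▸ h5)
      rw [h6] at hj
      exact mul_inv_eq_iff_eq_mul.mp hj.symm
    · right
      refine hCL (m * g) ?_
      rw [sub_eq_zero, ← pow_succ] at h3
      have h4 := hG.prim.dvd_of_pow_eq_one _ h3
      have hx1 : x ^ (j + 1) = 1 := orderOf_dvd_iff_pow_eq_one.mp (hG.ord.symm ▸ h4)
      have h6 : g * x * g⁻¹ = x⁻¹ := by
        rw [← hj]
        exact eq_inv_of_mul_eq_one_left (by rw [← pow_succ]; exact hx1)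
      refine mul_inv_eq_iff_eq_mul.mp ?_
      calc m * g * x * (m * g)⁻¹ = m * (g * x * g⁻¹) * m⁻¹ := by group
        _ = (m * x * m⁻¹)⁻¹ := by rw [h6]; group
        _ = x := by rw [hm, inv_inv]
  have hall : ∀ g : G, g ∈ L ∨ m * g ∈ L := by
    intro g
    have hg : g ∈ Subgroup.normalizer (Q : Set G) ⊔ H := hfrat ▸ Subgroup.mem_top g
    obtain ⟨u, hu, v, hv, rfl⟩ := Subgroup.mem_sup_of_normal_right.mp hg
    have hv' : v ∈ L := Subgroup.mem_sup_left hv
    rcases hNL u hu with h1 | h1
    · exact Or.inl (mul_mem h1 hv')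
    · exact Or.inr (by rw [← mul_assoc]; exact mul_mem h1 hv')
  have hLirr : IsIrrCharacter L fun l => (χ : G → ℂ) (l : G) := by
    by_cases hmL : m ∈ L
    · have htop : L = ⊤ := (Subgroup.eq_top_iff' _).mpr fun g => (hall g).elim id
        fun h => (L.mul_mem_cancel_left hmL).mp h
      exact isIrrCharacter_comp_surjective χ.2 L.subtype fun g => ⟨⟨g, htop ▸ Subgroup.mem_top g⟩, rfl⟩
    · have hLn : L.Normal := Subgroup.sup_normal _ _
      have hidx : L.index = 2 := by
        refine Subgroup.index_eq_two_iff.mpr ⟨m⁻¹, fun g => ?_⟩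
        have hiff : ∀ g : G, g * m⁻¹ ∈ L ↔ m⁻¹ * g ∈ L := fun g =>
          hLn.mem_comm_iff
        rcases hall g with h1 | h1
        · refine Or.inr ⟨h1, fun h2 => hmL ?_⟩
          exact inv_mem_iff.mp ((L.mul_mem_cancel_left h1).mp h2)
        · refine Or.inl ⟨?_, fun h2 => hmL ?_⟩
          · have hm2 : m * m ∈ L := hCL _ (by
              refine mul_inv_eq_iff_eq_mul.mp ?_
              calc m * m * x * (m * m)⁻¹ = m * (m * x * m⁻¹) * m⁻¹ := by group
                _ = (m * x * m⁻¹)⁻¹ := by (conv_lhs => rw [hm]); group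
                _ = x := by rw [hm, inv_inv])
            rw [hiff]
            rw [show m⁻¹ * g = (m * m)⁻¹ * (m * g) by group]
            exact mul_mem (inv_mem hm2) h1
          · exact (L.mul_mem_cancel_right h2).mp h1
      exact LinearSylow.isIrr_res_prime (p := 2) L hidx χ (by
        rw [hdeg]
        intro h2
        obtain ⟨k, hk⟩ := hp.odd_of_ne_two (by omega)
        omega)
  have hHirr := isIrr_of_sup_center χ H hLirr
  let χH : IrrCharacter H := ⟨_, hHirr⟩
  have hdegH : charDegree (χH : H → ℂ) = p - 2 := by rw [← hdeg]; rfl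
  have hfaithH : ∀ g : H, (χH : H → ℂ) g = (χH : H → ℂ) 1 → g = 1 := fun g hg =>
    Subtype.ext (hfaith g (by simpa [χH] using hg))
  have hnnH : ∀ R : Subgroup H, Nat.card R = p → ¬ R.Normal := by
    intro R hR hRn
    refine hnn (R.map H.subtype) (by rw [Subgroup.card_map_of_injective H.subtype_injective, hR]) ?_
    have huniq : ∀ S : Subgroup H, Nat.card S = p → S ≤ R := fun S hS => by
      have hsup : IsPGroup p (R ⊔ S : Subgroup H) :=
        IsPGroup.to_sup_of_normal_left' (IsPGroup.of_card (n := 1) (by rw [hR, pow_one]))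
          (IsPGroup.of_card (n := 1) (by rw [hS, pow_one]))
          (by rw [Subgroup.normalizer_eq_top_iff.mpr hRn]; exact le_top)
      obtain ⟨j, hj⟩ := IsPGroup.iff_card.mp hsup
      have hj1 : j ≤ 1 := by
        by_contra hlt
        exact hfactor.2 ((pow_dvd_pow p (show 2 ≤ j by omega)).trans
          (hj ▸ Subgroup.card_subgroup_dvd_card _))
      have heq : R = R ⊔ S := Subgroup.eq_of_le_of_card_ge le_sup_left (by
        rw [hj, hR]
        exact (Nat.pow_le_pow_right hp.pos hj1).trans (pow_one p).le)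
      exact heq ▸ le_sup_right
    constructor
    rintro _ ⟨u, hu, rfl⟩ g
    rcases eq_or_ne u 1 with rfl | hu1
    · simp [one_mem]
    have hord : orderOf (g * (u : G) * g⁻¹) = p := by
      rw [show orderOf (g * (u : G) * g⁻¹) = orderOf (u : G) from MulEquiv.orderOf_eq (MulAut.conj g) _,
        Subgroup.orderOf_coe, orderOf_eq_p hR hu hu1]
    let u' : H := ⟨g * (u : G) * g⁻¹, hHN.conj_mem _ u.2 g⟩
    exact ⟨u', huniq (Subgroup.zpowers u') (by rw [Nat.card_zpowers, Subgroup.orderOf_mk, hord])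
      (Subgroup.mem_zpowers u'), rfl⟩
  obtain ⟨y, ν, hy⟩ := exists_pre hp5 hfactor.1 hfactor.2 hnnH χH hdegH hfaithH
  have hcenH : ∀ z : H, z ∈ Subgroup.center H → (z : G) ∈ Subgroup.center G ∧ (z : G) ^ (p - 2) = 1 := by
    intro z hz
    obtain ⟨k, σ, hσ, hσχ⟩ := hHirr
    obtain ⟨c, hc⟩ := exists_scalar_of_mem_center σ hz
    have hnorm : ‖(χ : G → ℂ) (z : G)‖ = (charDegree (χ : G → ℂ) : ℝ) := by
      have e := (norm_char_eq_iff σ z).mpr ⟨c, hc⟩
      rw [hσχ] at e
      rw [e]
      have e1 := congrFun hσχ 1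
      rw [Representation.char_one, OneMemClass.coe_one, (CfsgLib.Block.charDegree_eq χ).1] at e1
      exact_mod_cast e1
    have hzc := mem_center_of_norm_eq hfaith hnorm
    refine ⟨hzc, hfaith _ ?_⟩
    obtain ⟨c', hc'⟩ := exists_scalar_of_mem_center ρ hzc
    have hdet : LinearMap.det (ρ (z : G)) = 1 := z.2
    rw [hc', LinearMap.det_smul, LinearMap.det_id, mul_one, hfr] at hdet
    rw [← hρχ]
    simp only [Representation.character, map_pow, map_one, hc', ← Module.End.one_eq_id, smul_pow, one_pow,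
      hdet, one_smul]
  have hoddH : Odd (Nat.card (Subgroup.center H)) := by
    rw [← Nat.not_even_iff_odd, even_iff_two_dvd]
    intro h2
    obtain ⟨z, hz⟩ := exists_prime_orderOf_dvd_card' 2 h2
    have h1 := orderOf_dvd_of_pow_eq_one (hcenH z z.2).2
    rw [Subgroup.orderOf_coe, Subgroup.orderOf_coe, hz] at h1
    obtain ⟨k, hk⟩ := hp.odd_of_ne_two (by omega)
    omega
  have hSD : SD p χH y ν :=
    { five_lt := hp5
      deg := by
        rw [(CfsgLib.Block.charDegree_eq χH).1, hdegH, Nat.cast_sub (by omega : 2 ≤ p)]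
        norm_num
      faith := hfaithH
      ord := hy.ord
      not_sq := hfactor.2
      prim := hy.prim
      val := hy.val
      sing := hy.sing
      odd_center := hoddH
      center_reg := hy.center_reg }
  -- an involution
  obtain ⟨ny, hny⟩ := hy.inv
  obtain ⟨a, ha⟩ : ∃ a : H, orderOf a = 2 := by
    have h2 : 2 ∣ orderOf ny := by
      by_contra hodd
      obtain ⟨k, hk⟩ := exists_pow_eq_self_of_coprime (x := ny) (n := 2)
        ((Nat.prime_two.coprime_iff_not_dvd).mpr hodd)
      have hc : Commute (ny ^ 2) y := by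
        refine mul_inv_eq_iff_eq_mul.mp ?_
        calc ny ^ 2 * y * (ny ^ 2)⁻¹ = ny * (ny * y * ny⁻¹) * ny⁻¹ := by rw [sq]; group
          _ = (ny * y * ny⁻¹)⁻¹ := by (conv_lhs => rw [hny]); group
          _ = y := by rw [hny, inv_inv]
      have hc' : Commute ny y := hk ▸ hc.pow_left k
      have : y = y⁻¹ := by rw [← hny, hc'.eq, mul_inv_cancel_right]
      have h2' : orderOf y ∣ 2 := orderOf_dvd_of_pow_eq_one (by
        rw [sq]; nth_rw 2 [this]; rw [mul_inv_cancel])
      rw [hy.ord] at h2'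
      have := Nat.le_of_dvd two_pos h2'
      omega
    exact ⟨_, orderOf_pow_orderOf_div (orderOf_pos ny).ne' h2⟩
  obtain ⟨T⟩ : Nonempty (Sylow 2 H) := inferInstance
  set q := Nat.card T with hq
  have hqdvd : q ∣ p - 1 := hSD.card_dvd T T.2
  have hTpos : 2 ≤ q := by
    have h1 := T.card_eq_multiplicity
    have h2 : 1 ≤ (Nat.card H).factorization 2 :=
      (Nat.prime_two.dvd_iff_one_le_factorization Nat.card_pos.ne').mp (ha ▸ orderOf_dvd_natCard a)
    rw [hq, h1]
    calc 2 = 2 ^ 1 := rfl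
      _ ≤ _ := Nat.pow_le_pow_right two_pos h2
  have hexp : ∀ e : T, e * e = 1 := fun e => by
    obtain ⟨k, hk⟩ := IsPGroup.iff_orderOf.mp T.2 e
    exact Subtype.ext (hSD.sq_eq_one (k := k) (by rw [Subgroup.orderOf_coe, hk]))
  have hncyc : ¬ IsCyclic (T : Subgroup H) := by
    intro hcy
    obtain ⟨g, hg⟩ := hcy.exists_generator
    have h1 : orderOf g = Nat.card T := orderOf_eq_card_of_forall_mem_zpowers hg
    have h2 : orderOf g ∣ 2 := orderOf_dvd_of_pow_eq_one (by rw [sq]; exact hexp g)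
    have h3 : q ≤ 2 := hq ▸ h1 ▸ Nat.le_of_dvd two_pos h2
    exact hSD.card_sylow_ne_two hnnH T ha (by omega)
  have hnnorm : ¬ (T : Subgroup H).Normal := by
    intro hTn
    let act : Subgroup.zpowers y →* MulAut (T : Subgroup H) :=
      (MulAut.conjNormal (H := (T : Subgroup H))).comp (Subgroup.zpowers y).subtype
    letI : MulAction (Subgroup.zpowers y) (T : Subgroup H) :=
      { smul := fun u e => act u e
        one_smul := fun e => by show act 1 e = e; simp
        mul_smul := fun u v e => by show act (u * v) e = act u (act v e); simp }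
    have hpg : IsPGroup p (Subgroup.zpowers y) :=
      IsPGroup.of_card (n := 1) (by rw [Nat.card_zpowers, hy.ord, pow_one])
    have hfix : MulAction.fixedPoints (Subgroup.zpowers y) (T : Subgroup H) = {1} := by
      ext e
      rw [MulAction.mem_fixedPoints, Set.mem_singleton_iff]
      constructor
      · intro he
        have h1 : (MulAut.conjNormal y e : (T : Subgroup H)) = e := he ⟨y, Subgroup.mem_zpowers y⟩
        have h2 := congrArg Subtype.val h1
        rw [MulAut.conjNormal_apply] at h2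
        have hc : Commute (e : H) y := (mul_inv_eq_iff_eq_mul.mp h2).symm
        obtain ⟨i, z, hz, hez⟩ := hy.cent _ hc
        have he2 : orderOf (e : H) ∣ 2 := orderOf_dvd_of_pow_eq_one (by
          rw [sq]; exact congrArg Subtype.val (hexp e))
        have hodd : Odd (orderOf (e : H)) := by
          rw [hez]
          exact ((((hy.ord ▸ hp.odd_of_ne_two (by omega) : Odd (orderOf y))).of_dvd_nat
            (orderOf_pow_dvd i)).mul (hSD.center_regular hz).2).of_dvd_nat
            (Commute.orderOf_mul_dvd_mul_orderOf (Subgroup.mem_center_iff.mp hz (y ^ i)))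
        refine Subtype.ext (orderOf_eq_one_iff.mp ?_)
        exact Nat.eq_one_of_dvd_coprimes (Nat.coprime_two_left.mpr hodd) he2 dvd_rfl
      · rintro rfl u
        exact map_one (act u)
    have hmod := hpg.card_modEq_card_fixedPoints (T : Subgroup H)
    rw [hfix, Nat.card_eq_fintype_card (α := ({1} : Set (T : Subgroup H))), Set.card_singleton,
      ← hq] at hmod
    have hd := (Nat.modEq_iff_dvd' (by omega : 1 ≤ q)).mp hmod.symm
    have := Nat.le_of_dvd (by omega) hd
    have := Nat.le_of_dvd (by omega) hqdvd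
    omega
  have hData : CfsgLib.AbCent.Data T := ⟨hncyc, hnnorm, fun t ht => hSD.comm_centralizer ht⟩
  obtain ⟨-, F, iF, iFF, iC, φ, hφs, hφk, hφo⟩ :=
    CfsgLib.AbCent.target (Nat.card H) H rfl T hData
  obtain ⟨B, iB, iBF, -, ⟨e⟩⟩ := CfsgLib.AbCent.split φ hφs hφk hφo
  obtain ⟨a', -, hFcard⟩ := FiniteField.card F 2
  -- the order of the Sylow subgroup
  have hcardH : Nat.card H = Nat.card φ.ker *
      (Fintype.card F * ((Fintype.card F - 1) * (Fintype.card F + 1))) := by
    rw [← Subgroup.card_mul_index φ.ker, Subgroup.index_ker, MonoidHom.range_eq_top.mpr hφs,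
      Subgroup.card_top, CfsgLib.Classical.card_sl2]
  have hqF : Fintype.card F = q := by
    have hFpos : 0 < Fintype.card F := Fintype.card_pos
    have ho : Odd ((Nat.card φ.ker) * ((Fintype.card F - 1) * (Fintype.card F + 1))) := by
      have hev : Even (Fintype.card F) := hFcard ▸ (even_two.pow_of_ne_zero a'.ne_zero)
      obtain ⟨k, hk⟩ := hev
      exact hφo.mul ((Nat.odd_iff.mpr (by omega)).mul (Nat.odd_iff.mpr (by omega)))
    have hno : ¬ 2 ∣ (Nat.card φ.ker) * ((Fintype.card F - 1) * (Fintype.card F + 1)) :=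
      fun h => Nat.not_even_iff_odd.mpr ho (even_iff_two_dvd.mpr h)
    rw [hq, T.card_eq_multiplicity, hcardH,
      show Nat.card φ.ker * (Fintype.card F * ((Fintype.card F - 1) * (Fintype.card F + 1))) =
        2 ^ (a' : ℕ) * (Nat.card φ.ker * ((Fintype.card F - 1) * (Fintype.card F + 1))) by
        rw [hFcard]; ring,
      Nat.factorization_mul (by positivity) (fun h => hno (by rw [h]; exact dvd_zero 2)), Finsupp.add_apply,
      Nat.Prime.factorization_pow Nat.prime_two, Finsupp.single_eq_same,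
      Nat.factorization_eq_zero_of_not_dvd hno, add_zero, hFcard]
  have hpq : p = Fintype.card F + 1 := by
    have hpk : ¬ p ∣ Nat.card φ.ker := fun hd =>
      hy.center_reg (hd.trans (Subgroup.card_dvd_of_le hφk))
    have hd := hfactor.1
    rw [hcardH] at hd
    have hle := Nat.le_of_dvd (by omega) hqdvd
    rcases hp.dvd_mul.mp hd with h1 | h1
    · exact absurd h1 hpk
    rcases hp.dvd_mul.mp h1 with h1 | h1
    · have := Nat.le_of_dvd (by omega) h1
      omega
    rcases hp.dvd_mul.mp h1 with h1 | h1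
    · have := Nat.le_of_dvd (by omega) h1
      omega
    · have := Nat.le_of_dvd (by omega) h1
      omega
  refine ⟨a', F, iF, iFF, by rw [hpq, hFcard], hFcard, ?_⟩
  -- the decomposition of the whole group
  let ι : Matrix.SpecialLinearGroup (Fin 2) F × Subgroup.center G →* G :=
    { toFun := fun s => (e.symm (s.1, 1) : G) * (s.2 : G)
      map_one' := by
        show ((e.symm (1, 1) : H) : G) * ((1 : Subgroup.center G) : G) = 1
        rw [show ((1 : Matrix.SpecialLinearGroup (Fin 2) F), (1 : B)) = 1 from rfl, map_one,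
          OneMemClass.coe_one, OneMemClass.coe_one, one_mul]
      map_mul' := fun s t => by
        show ((e.symm (s.1 * t.1, 1) : H) : G) * ((s.2 : G) * t.2) =
          (e.symm (s.1, 1) : G) * s.2 * ((e.symm (t.1, 1) : G) * t.2)
        rw [show ((s.1 * t.1, (1 : B)) : _ × B) = (s.1, 1) * (t.1, 1) by rw [Prod.mk_mul_mk, one_mul],
          map_mul, Subgroup.coe_mul]
        calc _ = (e.symm (s.1, 1) : G) * ((e.symm (t.1, 1) : G) * (s.2 : G)) * t.2 := by group
          _ = _ := by rw [Subgroup.mem_center_iff.mp s.2.2 _]; group }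
  have hinj : Function.Injective ι := by
    rw [injective_iff_map_eq_one]
    rintro ⟨s, z⟩ hs
    have hs' : (e.symm (s, 1) : G) * (z : G) = 1 := hs
    have hc : (e.symm (s, 1) : G) ∈ Subgroup.center G := by
      rw [eq_inv_of_mul_eq_one_left hs']
      exact inv_mem z.2
    have hs1 : s = 1 := by
      have hsc : s ∈ Subgroup.center (Matrix.SpecialLinearGroup (Fin 2) F) := by
        refine Subgroup.mem_center_iff.mpr fun t => ?_
        have h1 : e.symm (t, 1) * e.symm (s, 1) = e.symm (s, 1) * e.symm (t, 1) :=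
          Subtype.ext (Subgroup.mem_center_iff.mp hc _)
        rw [← map_mul, ← map_mul] at h1
        exact congrArg Prod.fst (e.symm.injective h1)
      rwa [sl2_center_eq_bot, Subgroup.mem_bot] at hsc
    subst hs1
    rw [show ((1 : Matrix.SpecialLinearGroup (Fin 2) F), (1 : B)) = 1 from rfl, map_one,
      OneMemClass.coe_one, one_mul] at hs'
    exact Prod.ext rfl (Subtype.ext hs')
  have hsurj : Function.Surjective ι := by
    have hrange : ∀ g : G, g ∈ L → g ∈ ι.range := by
      intro g hg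
      obtain ⟨hh, hhm, z, hz, rfl⟩ := Subgroup.mem_sup_of_normal_left.mp hg
      refine mul_mem ?_ ⟨(1, ⟨z, hz⟩), ?_⟩
      · set w := e ⟨hh, hhm⟩ with hw
        have hb : ((e.symm (1, w.2) : H) : G) ∈ Subgroup.center G := by
          refine (hcenH _ (Subgroup.mem_center_iff.mpr fun g => ?_)).1
          apply e.injective
          rw [map_mul, map_mul, e.apply_symm_apply]
          exact Prod.ext (by simp) (mul_comm _ _)
        refine ⟨(w.1, ⟨_, hb⟩), ?_⟩
        show ((e.symm (w.1, 1) : H) : G) * (e.symm (1, w.2) : G) = hh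
        rw [← Subgroup.coe_mul, ← map_mul, Prod.mk_mul_mk, mul_one, one_mul, Prod.mk.eta, hw,
          e.symm_apply_apply]
      · show ((e.symm (1, 1) : H) : G) * z = z
        rw [show ((1 : Matrix.SpecialLinearGroup (Fin 2) F), (1 : B)) = 1 from rfl, map_one,
          OneMemClass.coe_one, one_mul]
    -- the inverting element lies in `L`
    have hmL : m ∈ L := by
      obtain ⟨c, z, i, hz, hi, hcy⟩ := hG.sing (y : G) (by rw [Subgroup.orderOf_coe, hy.ord])
      have hz1 : z = 1 := by
        have e0 : (c * (y : G) * c⁻¹) ^ p = 1 := by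
          rw [conj_pow, ← hy.ord, ← Subgroup.orderOf_coe, pow_orderOf_eq_one, mul_one, mul_inv_cancel]
        rw [hcy, (show Commute (x ^ i) z from Subgroup.mem_center_iff.mp hz (x ^ i)).mul_pow, ← pow_mul,
          mul_comm i p, pow_mul, ← hG.ord, pow_orderOf_eq_one, one_pow, one_mul, hG.ord] at e0
        rw [← orderOf_eq_one_iff]
        rcases hp.eq_one_or_self_of_dvd _ (orderOf_dvd_of_pow_eq_one e0) with h1 | h1
        · exact h1
        · have hd := orderOf_dvd_natCard (⟨z, hz⟩ : Subgroup.center G)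
          rw [Subgroup.orderOf_mk, h1] at hd
          exact absurd hd hG.center_reg
      rw [hz1, mul_one] at hcy
      -- a conjugate of the inverting element inverts `x`
      set k := c * (ny : G) * c⁻¹ with hk
      have hkH : k ∈ H := hHN.conj_mem _ ny.2 c
      have hki : k * x ^ i * k⁻¹ = (x ^ i)⁻¹ := by
        rw [← hcy, hk]
        have hny' : (ny : G) * y * (ny : G)⁻¹ = (y : G)⁻¹ := congrArg Subtype.val hny
        calc c * ny * c⁻¹ * (c * y * c⁻¹) * (c * ny * c⁻¹)⁻¹ = c * (ny * y * (ny : G)⁻¹) * c⁻¹ := by group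
          _ = _ := by rw [hny']; group
      obtain ⟨j, hj⟩ := exists_pow_eq_self_of_coprime (x := x) (n := i) (by
        rw [hG.ord]; exact ((hp.coprime_iff_not_dvd).mpr hi).symm)
      have hkx : k * x * k⁻¹ = x⁻¹ := by
        rw [← hj, ← inv_pow, ← hki, conj_pow]
      have hc : Commute (m * k) x := mul_inv_eq_iff_eq_mul.mp (by
        calc m * k * x * (m * k)⁻¹ = m * (k * x * k⁻¹) * m⁻¹ := by group
          _ = (m * x * m⁻¹)⁻¹ := by rw [hkx]; group
          _ = x := by rw [hm, inv_inv])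
      exact (L.mul_mem_cancel_right (Subgroup.mem_sup_left hkH)).mp (hCL _ hc)
    intro g
    exact hrange g ((hall g).elim id fun h => (L.mul_mem_cancel_left hmL).mp h)
  exact ⟨(MulEquiv.ofBijective ι ⟨hinj, hsurj⟩).symm⟩

end CfsgLib.Char.DegreePSubTwo
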