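import Cfsg.Agent.Lib.Block.Cyclic.HalfKernel
import Cfsg.Agent.Lib.Char.Scalar

/-!
# The shape of a faithful character of degree `p - 2`

If a Sylow subgroup `Q` of order `p` is not normal and `χ` is faithful irreducible of degree `p - 2`,
then `[N(Q) : C(Q)] = 2`, the `p'`-part of the centraliser is central and
`χ(x^i) = -(ω^i + ω^{-i})` for a primitive `p`-th root of unity `ω`.
-/

open Finset
open scoped ComplexConjugate

set_option linter.unusedSectionVars false

namespace CfsgLib.Char.DegreePSubTwo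

open Cfsg CfsgLib.Char CfsgLib.Block CfsgLib.Block.Cyclic

universe u

variable {p : ℕ} [Fact p.Prime] {G : Type u} [Group G] [Fintype G] [DecidableEq G]

/-- An element at which a faithful irreducible character has maximal absolute value is central. -/
theorem mem_center_of_norm_eq {χ : IrrCharacter G}
    (hfaith : ∀ g : G, (χ : G → ℂ) g = (χ : G → ℂ) 1 → g = 1) {u : G}
    (h : ‖(χ : G → ℂ) u‖ = charDegree (χ : G → ℂ)) : u ∈ Subgroup.center G := by
  obtain ⟨n, ρ, hρ, hρχ⟩ := χ.2
  have hfr : charDegree (χ : G → ℂ) = Module.finrank ℂ (Fin n → ℂ) := by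
    rw [← hρχ]; simp [charDegree, Representation.char_one]
  rw [hfr, ← hρχ] at h
  obtain ⟨ω, hω⟩ := (norm_char_eq_iff ρ u).mp h
  refine Subgroup.mem_center_iff.mpr fun g => ?_
  have hc : ρ g * ρ u = ρ u * ρ g := by
    rw [hω, ← Module.End.one_eq_id, mul_smul_comm, smul_mul_assoc, mul_one, one_mul]
  have h1 : (χ : G → ℂ) (g * u * g⁻¹ * u⁻¹) = (χ : G → ℂ) 1 := by
    rw [← hρχ]
    simp only [Representation.character]
    congr 1
    rw [map_mul, map_mul, map_mul, hc, mul_assoc (ρ u), ← map_mul ρ g, mul_inv_cancel, map_one,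
      mul_one, ← map_mul, mul_inv_cancel, map_one]
  exact mul_inv_eq_iff_eq_mul.mp (mul_inv_eq_one.mp (hfaith _ h1))

/-- A character of degree one has absolute value one. -/
theorem norm_eq_one_of_degree_one {χ : IrrCharacter G} (hd : charDegree (χ : G → ℂ) = 1) (g : G) :
    ‖(χ : G → ℂ) g‖ = 1 := by
  obtain ⟨n, ρ, hρ, hρχ⟩ := χ.2
  have hfr : charDegree (χ : G → ℂ) = Module.finrank ℂ (Fin n → ℂ) := by
    rw [← hρχ]; simp [charDegree, Representation.char_one]
  obtain ⟨b, μ, h1, -, h3⟩ := exists_eigen_data ρ g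
  have h := h3 1
  simp only [pow_one] at h
  have : Unique (Fin (Module.finrank ℂ (Fin n → ℂ))) := by rw [← hfr, hd]; infer_instance
  rw [← hρχ, h, Fintype.sum_unique]
  exact norm_eq_one_of_pow_eq_one' (orderOf_pos g).ne' (h1 _)

variable (D : CycSetup p G) [Fintype D.K] [Fintype (Subgroup.centralizer (D.Q : Set G))]

theorem cycShape {M : Ideal AlgInt} [M.IsMaximal] (hM : IsPModular p M) {B : Set (IrrCharacter G)}
    (h : D.BlockData M B) {χ : IrrCharacter G} (hχ : χ ∈ B) (hp5 : 5 < p)
    (hdeg : charDegree (χ : G → ℂ) = p - 2)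
    (hfaith : ∀ g : G, (χ : G → ℂ) g = (χ : G → ℂ) 1 → g = 1)
    (hnc : ∀ i : ZMod p, i ≠ 0 → D.xp i ∉ Subgroup.center G) :
    ∃ j₀ : ZMod p, j₀ ≠ 0 ∧ D.K ≤ Subgroup.center G ∧
      (∀ i : ZMod p, i ≠ 0 →
        (χ : G → ℂ) (D.xp i) = -(stdPsi p (i * j₀) + stdPsi p (-(i * j₀)))) ∧
      ∃ n : G, n * D.x * n⁻¹ = D.x⁻¹ := by
  classical
  have hp : p.Prime := Fact.out
  have := Fintype.ofFinite (IrrCharacter D.K)
  obtain ⟨E⟩ := D.exists_exceptional_family hM h
  set x := charDegree (χ : G → ℂ) with hx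
  set d := charDegree (D.φ : D.K → ℂ) with hdd
  set f := D.stab.relIndex (Subgroup.normalizer (D.Q : Set G)) with hf
  obtain ⟨m, hm⟩ := D.deg_eq h hχ
  rw [← hf, ← hdd, ← hx] at hm
  have hm0 : m = 0 := by
    by_contra hne
    have := Nat.le_mul_of_pos_right p (Nat.pos_of_ne_zero hne)
    omega
  rw [hm0, mul_zero, add_zero] at hm
  have hd1 : 0 < d := Nat.pos_of_ne_zero (charDegree_eq D.φ).2
  have hf1 : 0 < f := by
    refine Nat.pos_of_ne_zero fun h0 => (charDegree_eq χ).2 ?_
    rw [← hx, hm, h0, zero_mul, zero_mul]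
  set S := ∑ j : ZMod p, D.multN χ j with hS
  have hSx : S ≤ x := hm ▸ Nat.le_mul_of_pos_left _ (Nat.mul_pos hf1 hd1)
  choose mm hmm using fun (φ' : IrrCharacter D.K) (j : ZMod p) =>
    (D.withChar φ').mult_nat (isCharacter_irr χ) j
  choose aa haa using fun j : ZMod p => D.aP_nat (isCharacter_irr χ) j
  have haeq : ∀ j, aa j = ∑ φ' : IrrCharacter D.K, charDegree (φ' : D.K → ℂ) * mm φ' j := fun j => by
    have e := D.aP_eq_sum_mult (isClassFunction_irr χ) j
    rw [haa] at e
    have e' : (aa j : ℂ) = ((∑ φ' : IrrCharacter D.K, charDegree (φ' : D.K → ℂ) * mm φ' j : ℕ) : ℂ) := by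
      rw [e, Nat.cast_sum]
      exact Finset.sum_congr rfl fun φ' _ => by rw [hmm, (charDegree_eq φ').1]; push_cast; rfl
    exact_mod_cast e'
  have hsum : ∑ j, aa j = x := by
    have e := D.sum_aP (χ : G → ℂ)
    rw [(charDegree_eq χ).1] at e
    have e' : ((∑ j, aa j : ℕ) : ℂ) = (x : ℂ) := by
      rw [Nat.cast_sum, ← e]
      exact Finset.sum_congr rfl fun j _ => (haa j).symm
    exact_mod_cast e'
  have hout : ∀ φ', ¬ D.InOrbit φ' → ∀ j, mm φ' j = 0 := by
    intro φ' ho
    have hconst : ∀ j, mm φ' j = mm φ' 0 := fun j => by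
      have e : ∀ j, (mm φ' j : ℂ) = (p : ℂ)⁻¹ * secMult (χ : G → ℂ) (φ' : D.K → ℂ) (D.xp 0) := fun j => by
        rw [← hmm, CycSetup.mult, Finset.sum_eq_single (0 : ZMod p) (fun i _ hi => by
          rw [coe_withChar_dval, h.sec_out χ hχ φ' ho i hi, mul_zero]) (by simp), zero_mul, neg_zero,
          AddChar.map_zero_eq_one, one_mul, coe_withChar_dval]
      exact_mod_cast (e j).trans (e 0).symm
    intro j
    rw [hconst]
    by_contra hne
    have h1 : ∀ j, 1 ≤ aa j := fun j => by
      rw [haeq]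
      refine le_trans ?_ (Finset.single_le_sum (fun _ _ => Nat.zero_le _) (Finset.mem_univ φ'))
      exact Nat.mul_pos (Nat.pos_of_ne_zero (charDegree_eq φ').2) (by rw [hconst]; exact Nat.pos_of_ne_zero hne)
    have h2 : (Finset.univ : Finset (ZMod p)).card • 1 ≤ ∑ j, aa j :=
      Finset.card_nsmul_le_sum _ _ 1 fun j _ => h1 j
    rw [Finset.card_univ, ZMod.card, smul_eq_mul, mul_one, hsum] at h2
    omega
  -- the multiplicities off zero cannot all vanish
  have hsingle : (∀ j, j ≠ 0 → D.multN χ j = 0) → False := by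
    intro hz
    have h0 : ∀ j, j ≠ 0 → D.aP (χ : G → ℂ) j = 0 := fun j hj => by
      rw [haa, Nat.cast_eq_zero, haeq]
      refine Finset.sum_eq_zero fun φ' _ => ?_
      by_cases ho : D.InOrbit φ'
      · obtain ⟨n, hn, rfl⟩ := ho
        have e := hmm (conjKChar D.hQ D.hK hn D.φ) j
        rw [D.mult_conj (isClassFunction_irr χ) hn, D.mult_eq,
          hz _ (mul_ne_zero (D.expo0_isUnit _).ne_zero hj)] at e
        rw [show mm (conjKChar D.hQ D.hK hn D.φ) j = 0 by exact_mod_cast e.symm, mul_zero]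
      · rw [hout φ' ho, mul_zero]
    exact hnc 1 one_ne_zero (mem_center_of_norm_eq hfaith (D.norm_eq_of_aP_single h0 1))
  have hmult : ∀ j : (ZMod p)ˣ, (D.multN χ j : ℤ) = D.multN χ 0 + D.vec χ j := fun j => by
    rw [CycSetup.vec]; ring
  have hSsplit : S = D.multN χ 0 + ∑ j : (ZMod p)ˣ, D.multN χ j := sum_zmod_split _
  have hcardU : Fintype.card (ZMod p)ˣ = p - 1 := by
    rw [ZMod.card_units_eq_totient, Nat.totient_prime hp]
  rcases (E.mem χ).mp hχ with hu | ⟨k, rfl⟩
  · exfalso
    have hc : ∀ j : (ZMod p)ˣ, (D.multN χ j : ℤ) = D.multN χ 0 + E.u χ := fun j => by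
      rw [hmult, E.vec_of_u hu]
    rcases (E.u_cases χ).resolve_left hu with e | e <;> simp only [e] at hc
    · have hge : (Finset.univ : Finset (ZMod p)ˣ).card • 1 ≤ ∑ j : (ZMod p)ˣ, D.multN χ j :=
        Finset.card_nsmul_le_sum _ _ 1 fun j _ => by have := hc j; omega
      rw [Finset.card_univ, hcardU, smul_eq_mul, mul_one] at hge
      omega
    · refine hsingle fun j hj => ?_
      have hconst : ∀ j : (ZMod p)ˣ, D.multN χ j = D.multN χ 0 - 1 := fun j => by
        have := hc j; omega
      rw [Finset.sum_congr rfl fun j _ => hconst j, Finset.sum_const, Finset.card_univ, hcardU,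
        smul_eq_mul] at hSsplit
      have hm01 : D.multN χ 0 ≤ 1 := by
        by_contra h2
        have := Nat.le_mul_of_pos_right (p - 1) (show 0 < D.multN χ 0 - 1 by omega)
        omega
      have := hconst (Units.mk0 j hj)
      rw [Units.val_mk0] at this
      omega
  set m0 := D.multN (E.Y k) 0 with hm0'
  have hc : ∀ j : (ZMod p)ˣ, (D.multN (E.Y k) j : ℤ) = m0 + E.δ * (if k = j then 1 else 0) :=
    fun j => by rw [hmult, E.vec_Y]
  obtain ⟨k₀, rfl⟩ := QuotientGroup.mk_surjective k
  have hcoset : (Finset.univ.filter fun j : (ZMod p)ˣ =>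
      (k₀ : (ZMod p)ˣ ⧸ D.expE) = j).card = Nat.card D.expE := by
    rw [← Fintype.card_subtype, ← Nat.card_eq_fintype_card]
    exact Nat.card_congr
      { toFun := fun j => ⟨k₀⁻¹ * j.1, QuotientGroup.eq.mp j.2⟩
        invFun := fun r => ⟨k₀ * r.1, QuotientGroup.eq.mpr (by rw [inv_mul_cancel_left]; exact r.2)⟩
        left_inv := fun j => Subtype.ext (mul_inv_cancel_left _ _)
        right_inv := fun r => Subtype.ext (inv_mul_cancel_left _ _) }
  have hSint : (∑ j : (ZMod p)ˣ, (D.multN (E.Y k₀) j : ℤ)) =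
      ((p - 1 : ℕ) : ℤ) * m0 + E.δ * (Nat.card D.expE : ℤ) := by
    rw [Finset.sum_congr rfl fun j _ => hc j, Finset.sum_add_distrib, Finset.sum_const,
      Finset.card_univ, hcardU, ← Finset.mul_sum, Finset.sum_boole, hcoset, nsmul_eq_mul]
  have hSeq : (S : ℤ) = (p : ℤ) * m0 + E.δ * (Nat.card D.expE : ℤ) := by
    rw [hSsplit]
    push_cast
    rw [hSint, Nat.cast_sub hp.one_lt.le]
    push_cast
    ring
  have hedvd : Nat.card D.expE * f ∣ p - 1 := by
    rw [hf, D.relIndex_mul, ← D.card_expN, ← hcardU, ← Nat.card_eq_fintype_card]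
    exact Subgroup.card_subgroup_dvd_card _
  have hle : Nat.card D.expE ≤ p - 1 := by
    rw [← hcardU, ← Nat.card_eq_fintype_card]
    exact Subgroup.card_le_card_group _
  have hepos : 0 < Nat.card D.expE := Nat.card_pos
  -- consequences of a trivial orbit
  have horb : f = 1 → ∀ φ', D.InOrbit φ' → φ' = D.φ := by
    rintro hf' φ' ⟨n, hn, rfl⟩
    have hs : n ∈ D.stab := Subgroup.relIndex_eq_one.mp hf' hn
    obtain ⟨_, e⟩ := hs
    exact e
  have hval : f = 1 → ∀ (i : ZMod p) (y : D.K), (E.Y k₀ : G → ℂ) (D.xp i * (y : G)) =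
      (∑ j : ZMod p, stdPsi p (i * j) * (D.multN (E.Y k₀) j : ℂ)) * (D.φ : D.K → ℂ) y := by
    intro hf' i y
    rw [value_eq_sum D.hQ D.hK (isClassFunction_irr _) (D.xp_mem i) y, Finset.sum_eq_single D.φ]
    · congr 1
      exact (D.dval_eq_sum_mult _ i).trans (Finset.sum_congr rfl fun j _ => by rw [D.mult_eq])
    · intro φ' _ hne
      have h1 : (D.withChar φ').dval (E.Y k₀ : G → ℂ) i = 0 := by
        rw [(D.withChar φ').dval_eq_sum_mult]
        refine Finset.sum_eq_zero fun j _ => ?_
        rw [hmm φ' j, hout φ' (fun ho => hne (horb hf' φ' ho)), Nat.cast_zero, mul_zero]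
      rw [coe_withChar_dval] at h1
      rw [h1, zero_mul]
    · exact fun hn => absurd (Finset.mem_univ _) hn
  rcases E.sign with e | e <;> rw [e] at hSeq <;> simp only [e] at hc
  · exfalso
    have hm00 : m0 = 0 := by
      by_contra hne
      have := Nat.le_mul_of_pos_right p (Nat.pos_of_ne_zero hne)
      have : (p : ℤ) ≤ (p : ℤ) * m0 := by exact_mod_cast this
      omega
    have hSe : S = Nat.card D.expE := by rw [hm00] at hSeq; omega
    have hone : Nat.card D.expE * f = 1 := by
      have h1 : Nat.card D.expE * f ∣ p - 2 := ⟨d, by rw [← hdeg, hm, hSe]; ring⟩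
      have h2 := Nat.dvd_sub hedvd h1
      rw [show p - 1 - (p - 2) = 1 by omega] at h2
      exact Nat.dvd_one.mp h2
    have hf' : f = 1 := Nat.eq_one_of_mul_eq_one_left hone
    have hE1 : Nat.card D.expE = 1 := Nat.eq_one_of_mul_eq_one_right hone
    have hbot : D.expE = ⊥ := Subgroup.card_eq_one.mp hE1
    refine hnc 1 one_ne_zero (mem_center_of_norm_eq hfaith ?_)
    have hv := hval hf' 1 1
    rw [OneMemClass.coe_one, mul_one] at hv
    rw [hv, Finset.sum_eq_single (k₀ : ZMod p)]
    · have h1 := hc k₀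
      rw [if_pos rfl, hm00] at h1
      have h2 : D.multN (E.Y k₀) (k₀ : ZMod p) = 1 := by omega
      rw [h2, Nat.cast_one, mul_one, norm_mul, (charDegree_eq D.φ).1, Complex.norm_natCast,
        norm_eq_one_of_pow_eq_one' (NeZero.ne p) (stdPsi_pow p _), one_mul, ← hdd,
        show charDegree (E.Y k₀ : G → ℂ) = x from hx.symm, hm, hf', one_mul, hSe, hE1, mul_one]
    · intro j _ hj
      rcases eq_or_ne j 0 with rfl | hj0
      · rw [← hm0', hm00, Nat.cast_zero, mul_zero]
      · have h1 := hc (Units.mk0 j hj0)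
        rw [hm00] at h1
        split_ifs at h1 with heq
        · exfalso
          have := QuotientGroup.eq.mp heq
          rw [hbot, Subgroup.mem_bot, inv_mul_eq_one] at this
          exact hj (by rw [this, Units.val_mk0])
        · rw [Units.val_mk0] at h1
          rw [show D.multN (E.Y k₀) j = 0 by omega, Nat.cast_zero, mul_zero]
    · simp
  have hm01 : m0 = 1 := by
    have h2 : ¬ 2 ≤ m0 := fun h2 => by
      have : (p : ℤ) * 2 ≤ (p : ℤ) * m0 := by exact_mod_cast Nat.mul_le_mul_left p h2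
      omega
    have h0 : m0 ≠ 0 := by
      intro h0
      have h1 := hc k₀
      rw [if_pos rfl, h0] at h1
      omega
    omega
  rw [hm01] at hSeq hc
  have hnetop : Nat.card D.expE ≠ p - 1 := by
    intro hall
    have htop : D.expE = ⊤ := (Subgroup.card_eq_iff_eq_top _).mp (by
      rw [hall, Nat.card_eq_fintype_card, hcardU])
    refine hsingle fun j hj => ?_
    have h1 := hc (Units.mk0 j hj)
    rw [if_pos (QuotientGroup.eq.mpr (htop ▸ Subgroup.mem_top _)), Units.val_mk0] at h1
    omega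
  obtain ⟨t, ht⟩ : Nat.card D.expE ∣ p - 1 := (dvd_mul_right _ _).trans hedvd
  have h2e : 2 * Nat.card D.expE ≤ p - 1 := by
    have ht2 : 2 ≤ t := by
      rcases t with _ | _ | t
      · rw [mul_zero] at ht; omega
      · exact absurd (by rw [ht, zero_add, mul_one]) hnetop
      · omega
    have := Nat.mul_le_mul_left (Nat.card D.expE) ht2
    omega
  have hSe : S = p - Nat.card D.expE := by omega
  have hfd : f * d = 1 := by
    by_contra hne
    have h2 : 2 ≤ f * d := by
      have := Nat.mul_pos hf1 hd1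
      omega
    have := Nat.mul_le_mul_right S h2
    omega
  have hf' : f = 1 := Nat.eq_one_of_mul_eq_one_right hfd
  have hd' : d = 1 := Nat.eq_one_of_mul_eq_one_left hfd
  have he2 : Nat.card D.expE = 2 := by
    rw [hfd, one_mul] at hm
    omega
  -- the exponents are ±1
  obtain ⟨r, hr, hr1⟩ : ∃ r ∈ D.expE, r ≠ 1 := by
    by_contra hc'
    push Not at hc'
    have : D.expE = ⊥ := (Subgroup.eq_bot_iff_forall _).mpr hc'
    rw [this, Subgroup.card_bot] at he2
    omega
  have hpm : ∀ s ∈ D.expE, s = 1 ∨ s = -1 := by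
    intro s hs
    have h2 : s ^ 2 = 1 := by
      have := pow_card_eq_one' (x := (⟨s, hs⟩ : D.expE))
      rw [he2] at this
      exact congrArg Subtype.val this
    have h3 : (s : ZMod p) * s = 1 := by
      rw [← Units.val_mul, ← sq, h2, Units.val_one]
    rcases mul_self_eq_one_iff.mp h3 with h4 | h4
    · exact Or.inl (Units.ext h4)
    · exact Or.inr (Units.ext (by rw [h4, Units.val_neg, Units.val_one]))
  have hneg : (-1 : (ZMod p)ˣ) ∈ D.expE := (hpm r hr).resolve_left hr1 ▸ hr
  refine ⟨k₀, k₀.ne_zero, fun y hy => ?_, fun i hi => ?_, ?_⟩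
  · refine mem_center_of_norm_eq hfaith ?_
    have hv := hval hf' 0 ⟨y, hy⟩
    rw [D.xp_zero, one_mul] at hv
    rw [hv]
    simp only [zero_mul, AddChar.map_zero_eq_one, one_mul, ← Nat.cast_sum, ← hS]
    rw [norm_mul, Complex.norm_natCast, norm_eq_one_of_degree_one (hdd ▸ hd'), mul_one,
      show charDegree (E.Y k₀ : G → ℂ) = x from hx.symm, hm, hfd, one_mul]
  · have hv := hval hf' i 1
    rw [OneMemClass.coe_one, mul_one, (charDegree_eq D.φ).1, ← hdd, hd', Nat.cast_one, mul_one] at hv
    rw [hv]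
    have hmu : ∀ j : ZMod p, (D.multN (E.Y k₀) j : ℂ) =
        1 - ((if j = k₀ then 1 else 0) + if j = -k₀ then 1 else 0) := by
      intro j
      rcases eq_or_ne j 0 with rfl | hj0
      · rw [← hm0', hm01, if_neg k₀.ne_zero.symm,
          if_neg (fun e : (0 : ZMod p) = -k₀ => k₀.ne_zero (neg_eq_zero.mp e.symm))]
        simp
      · have hiff : ((k₀ : (ZMod p)ˣ ⧸ D.expE) = (Units.mk0 j hj0 : (ZMod p)ˣ)) ↔
            (j = k₀ ∨ j = -k₀) := by
          rw [QuotientGroup.eq]
          constructor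
          · intro hmem
            rcases hpm _ hmem with h1 | h1
            · rw [inv_mul_eq_one] at h1
              exact Or.inl (by rw [h1, Units.val_mk0])
            · rw [inv_mul_eq_iff_eq_mul, mul_neg, mul_one] at h1
              have := congrArg Units.val h1
              rw [Units.val_mk0, Units.val_neg] at this
              exact Or.inr this
          · rintro (rfl | rfl)
            · rw [show Units.mk0 (k₀ : ZMod p) hj0 = k₀ from Units.ext rfl, inv_mul_cancel]
              exact one_mem _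
            · rw [show Units.mk0 (-(k₀ : ZMod p)) hj0 = -k₀ from Units.ext rfl, mul_neg,
                inv_mul_cancel]
              exact hneg
        have hne : (k₀ : ZMod p) ≠ -k₀ := fun e => by
          have h2 : ((2 : ℕ) : ZMod p) * k₀ = 0 := by push_cast; linear_combination e
          rcases mul_eq_zero.mp h2 with h3 | h3
          · rw [ZMod.natCast_eq_zero_iff] at h3
            have := Nat.le_of_dvd two_pos h3
            omega
          · exact k₀.ne_zero h3
        have h1 := hc (Units.mk0 j hj0)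
        rw [Units.val_mk0] at h1
        split_ifs at h1 with hq
        · rw [show D.multN (E.Y k₀) j = 0 by omega]
          rcases hiff.mp hq with rfl | rfl
          · rw [if_pos rfl, if_neg hne]; simp
          · rw [if_neg (Ne.symm hne), if_pos rfl]; simp
        · rw [show D.multN (E.Y k₀) j = 1 by omega]
          have hn : ¬ (j = (k₀ : ZMod p) ∨ j = -(k₀ : ZMod p)) := fun hh => hq (hiff.mpr hh)
          rw [not_or] at hn
          rw [if_neg hn.1, if_neg hn.2]; simp
    simp only [hmu, mul_sub, mul_one, mul_add, mul_ite, mul_zero, Finset.sum_sub_distrib,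
      Finset.sum_add_distrib, Finset.sum_ite_eq', Finset.mem_univ, if_true]
    rw [show ∑ j : ZMod p, stdPsi p (i * j) = 0 by
      rw [Finset.sum_congr rfl fun j _ => by rw [mul_comm i j], sum_stdPsi_mul, if_neg hi],
      mul_neg, zero_sub]
  · obtain ⟨⟨t, ht'⟩, hte⟩ := hneg
    refine ⟨t, ?_⟩
    have h1 := D.expo0_spec ⟨t, D.stab_le ht'⟩
    have h2 : D.expo0 ⟨t, D.stab_le ht'⟩ = -1 := by
      rw [← D.coe_expo]
      show ((D.expT ⟨t, ht'⟩ : (ZMod p)ˣ) : ZMod p) = -1
      rw [hte, Units.val_neg, Units.val_one]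
    rw [h2] at h1
    rw [← h1]
    refine eq_inv_of_mul_eq_one_left ?_
    conv_lhs => rw [← D.xp_one, ← D.xp_add, neg_add_cancel, D.xp_zero]

end CfsgLib.Char.DegreePSubTwo
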