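import Cfsg.Agent.Lib.Block.Defect
import Cfsg.Agent.Lib.Char.PowTwist
import Cfsg.Agent.Lib.Char.SquareChar
import Cfsg.Agent.Lib.Char.Scalar
import Mathlib.Data.Nat.ChineseRemainder
import Mathlib.RingTheory.RootsOfUnity.Complex

/-!
# The exterior square of a character of degree `p - 2`

With `η_a(g) = χ(g^{e_a})`, where `e_a` squares the elements of odd order prime to `p`, fixes the
2-elements and raises the elements of order `p` to the power `a`, the exterior square of `χ` is the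
sum of the `η_a`, `a ≤ (p - 1)/2`, `a ≠ 2`.
-/

open Finset
open scoped ComplexConjugate

set_option autoImplicit false
set_option linter.unusedSectionVars false

namespace CfsgLib.Char.DegreePSubTwo

open Cfsg CfsgLib.Char

universe u

variable {p : ℕ} [Fact p.Prime] {G : Type u} [Group G] [Fintype G]

/-- A group with a character of degree `p - 2` of the exceptional shape. -/
structure SD (p : ℕ) (χ : IrrCharacter G) (x : G) (ω : ℂ) : Prop where
  five_lt : 5 < p
  deg : (χ : G → ℂ) 1 = (p : ℂ) - 2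
  faith : ∀ g : G, (χ : G → ℂ) g = (χ : G → ℂ) 1 → g = 1
  ord : orderOf x = p
  not_sq : ¬ p ^ 2 ∣ Nat.card G
  prim : IsPrimitiveRoot ω p
  val : ∀ i : ℕ, ¬ p ∣ i → (χ : G → ℂ) (x ^ i) = -(ω ^ i + ω⁻¹ ^ i)
  sing : ∀ g : G, p ∣ orderOf g → ∃ (c z : G) (i : ℕ),
    z ∈ Subgroup.center G ∧ ¬ p ∣ i ∧ c * g * c⁻¹ = x ^ i * z
  odd_center : Odd (Nat.card (Subgroup.center G))
  center_reg : ¬ p ∣ Nat.card (Subgroup.center G)

variable {χ : IrrCharacter G} {x : G} {ω : ℂ}

/-- A central element scales the values. -/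
theorem irr_central_mul {z : G} (hz : z ∈ Subgroup.center G) (g : G) :
    (χ : G → ℂ) (z * g) * (χ : G → ℂ) 1 = (χ : G → ℂ) z * (χ : G → ℂ) g := by
  obtain ⟨χ, n, ρ, hρ, rfl⟩ := χ
  obtain ⟨c, hc⟩ := exists_scalar_of_mem_center ρ hz
  simp only [Representation.character, map_mul, map_one, hc]
  rw [Module.End.mul_eq_comp, LinearMap.smul_comp, LinearMap.id_comp, Module.End.one_eq_id, map_smul,
    map_smul]
  simp only [smul_eq_mul]
  ring

/-- The sum over half of the non-trivial `p`-th roots of unity, with inverses. -/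
theorem sum_half_roots {ω : ℂ} (hω : IsPrimitiveRoot ω p) {t : ℕ} (ht : p = 2 * t + 1) {i : ℕ}
    (hi : ¬ p ∣ i) : ∑ a ∈ Finset.Icc 1 t, (ω ^ (i * a) + ω⁻¹ ^ (i * a)) = -1 := by
  have hp : p.Prime := Fact.out
  have hω' : IsPrimitiveRoot (ω ^ i) p :=
    hω.pow_of_coprime i ((hp.coprime_iff_not_dvd.mpr hi).symm)
  have hsum := hω'.geom_sum_eq_zero hp.one_lt
  rw [Finset.range_eq_Ico, Finset.sum_eq_sum_Ico_succ_bot hp.pos, pow_zero, zero_add] at hsum
  have hsplit : ∑ k ∈ Finset.Ico 1 p, (ω ^ i) ^ k =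
      ∑ a ∈ Finset.Icc 1 t, (ω ^ (i * a) + ω⁻¹ ^ (i * a)) := by
    rw [Finset.sum_add_distrib, ← Finset.sum_Ico_consecutive _ (show 1 ≤ t + 1 by omega)
      (show t + 1 ≤ p by omega)]
    congr 1
    · rw [Finset.Ico_add_one_right_eq_Icc]
      exact Finset.sum_congr rfl fun a _ => by rw [pow_mul]
    · refine Finset.sum_nbij' (fun k => p - k) (fun a => p - a) ?_ ?_ ?_ ?_ ?_
      · intro k hk
        simp only [Finset.mem_Ico, Finset.mem_Icc, Finset.mem_coe] at hk ⊢
        omega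
      · intro a ha
        simp only [Finset.mem_Ico, Finset.mem_Icc, Finset.mem_coe] at ha ⊢
        omega
      · intro k hk
        simp only [Finset.mem_Ico, Finset.mem_Icc, Finset.mem_coe] at hk
        show p - (p - k) = k
        omega
      · intro a ha
        simp only [Finset.mem_Ico, Finset.mem_Icc, Finset.mem_coe] at ha
        show p - (p - a) = a
        omega
      · intro k hk
        simp only [Finset.mem_Ico] at hk
        rw [← pow_mul, inv_pow]
        refine eq_inv_of_mul_eq_one_left ?_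
        rw [← pow_add, ← mul_add, show k + (p - k) = p by omega, mul_comm, pow_mul, hω.pow_eq_one,
          one_pow]
  rw [← hsplit]
  linear_combination hsum

variable (h : SD p χ x ω)

include h

theorem SD.p_dvd : p ∣ Nat.card G := h.ord ▸ orderOf_dvd_natCard x

theorem SD.cofactor : Nat.card G = Nat.card G / p * p ∧ (Nat.card G / p).Coprime p := by
  have hp : p.Prime := Fact.out
  refine ⟨(Nat.div_mul_cancel h.p_dvd).symm, (hp.coprime_iff_not_dvd.mpr fun hd => h.not_sq ?_).symm⟩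
  rw [pow_two, ← Nat.div_mul_cancel h.p_dvd]
  exact Nat.mul_dvd_mul_right hd p

theorem SD.dvd_cofactor {g : G} (hg : ¬ p ∣ orderOf g) : orderOf g ∣ Nat.card G / p := by
  have h1 := orderOf_dvd_natCard g
  rw [h.cofactor.1] at h1
  exact ((Fact.out : p.Prime).coprime_iff_not_dvd.mpr hg).symm.dvd_of_dvd_mul_right h1

theorem SD.center_regular {z : G} (hz : z ∈ Subgroup.center G) :
    ¬ p ∣ orderOf z ∧ Odd (orderOf z) := by
  have hd : orderOf z ∣ Nat.card (Subgroup.center G) := by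
    have := orderOf_dvd_natCard (⟨z, hz⟩ : Subgroup.center G)
    rwa [Subgroup.orderOf_mk] at this
  exact ⟨fun h1 => h.center_reg (h1.trans hd), h.odd_center.of_dvd_nat hd⟩

theorem SD.deg_ne_zero : (χ : G → ℂ) 1 ≠ 0 := irr_one_ne_zero χ

/-- The identity for the exterior square. -/
theorem SD.square_rel : ∃ b : ℕ,
    (∀ g : G, Odd (orderOf g) → ¬ p ∣ orderOf g → g ^ b = g * g) ∧
    (∀ (g : G) (k : ℕ), orderOf g ∣ 2 ^ k → g ^ b = g) ∧
    ∀ g : G, ¬ p ∣ orderOf g →
      (χ : G → ℂ) g * (χ : G → ℂ) g - (χ : G → ℂ) (g * g) =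
        ((p : ℂ) - 3) * (χ : G → ℂ) (g ^ b) := by
  classical
  have hp : p.Prime := Fact.out
  have hp5 := h.five_lt
  have := Fintype.ofFinite (IrrCharacter G)
  obtain ⟨t, ht⟩ : ∃ t, p = 2 * t + 1 := by
    obtain ⟨t, ht⟩ := hp.odd_of_ne_two (by omega)
    exact ⟨t, ht⟩
  -- the exponents
  obtain ⟨hN, hcop⟩ := h.cofactor
  set n0 := Nat.card G / p with hn0
  have hn0pos : n0 ≠ 0 := fun h0 => by rw [h0, zero_mul] at hN; exact Nat.card_pos.ne' hN
  obtain ⟨s, m, hm, hsm⟩ := Nat.exists_eq_two_pow_mul_odd hn0pos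
  have h2m : (2 ^ s).Coprime m := (Nat.coprime_two_left.mpr hm).pow_left _
  obtain ⟨b, hb1, hb2⟩ := Nat.chineseRemainder h2m 1 2
  set ea : ℕ → ℕ := fun a => (Nat.chineseRemainder hcop b a : ℕ) with hea
  have he1 : ∀ a, ea a ≡ b [MOD n0] := fun a => (Nat.chineseRemainder hcop b a).2.1
  have he2 : ∀ a, ea a ≡ a [MOD p] := fun a => (Nat.chineseRemainder hcop b a).2.2
  have hbn : b.Coprime n0 := by
    rw [hsm, Nat.coprime_mul_iff_right]
    refine ⟨?_, ?_⟩
    · rw [Nat.Coprime, hb1.gcd_eq]; simp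
    · rw [Nat.Coprime, hb2.gcd_eq]; exact Nat.coprime_two_left.mpr hm
  have hcopG : ∀ a, ¬ p ∣ a → (Nat.card G).Coprime (ea a) := fun a ha => by
    rw [hN, Nat.coprime_comm, Nat.coprime_mul_iff_right]
    refine ⟨?_, ?_⟩
    · rw [Nat.Coprime, (he1 a).gcd_eq]; exact hbn
    · rw [Nat.Coprime, (he2 a).gcd_eq]; exact (hp.coprime_iff_not_dvd.mpr ha).symm
  have hpow_reg : ∀ (a : ℕ) (g : G), ¬ p ∣ orderOf g → g ^ ea a = g ^ b := fun a g hg =>
    pow_eq_pow_iff_modEq.mpr ((he1 a).of_dvd (h.dvd_cofactor hg))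
  have hb_odd : ∀ g : G, Odd (orderOf g) → ¬ p ∣ orderOf g → g ^ b = g * g := by
    intro g hgo hg
    have hd : orderOf g ∣ 2 ^ s * m := hsm ▸ h.dvd_cofactor hg
    have hdm : orderOf g ∣ m :=
      ((Nat.coprime_two_right.mpr hgo).pow_right _).dvd_of_dvd_mul_left hd
    rw [← pow_two]
    exact pow_eq_pow_iff_modEq.mpr (hb2.of_dvd hdm)
  have hb_two : ∀ (g : G) (k : ℕ), orderOf g ∣ 2 ^ k → g ^ b = g := by
    intro g k hk
    have hg : ¬ p ∣ orderOf g := fun hd => by
      have := hp.dvd_of_dvd_pow (hd.trans hk)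
      have := Nat.le_of_dvd two_pos this
      omega
    have hd : orderOf g ∣ 2 ^ s * m := hsm ▸ h.dvd_cofactor hg
    have hd2 : orderOf g ∣ 2 ^ s :=
      (Nat.Coprime.coprime_dvd_left hk ((Nat.coprime_two_left.mpr hm).pow_left _)).dvd_of_dvd_mul_right hd
    conv_rhs => rw [← pow_one g]
    exact pow_eq_pow_iff_modEq.mpr (hb1.of_dvd hd2)
  refine ⟨b, hb_odd, hb_two, ?_⟩
  -- the family
  set η : ℕ → G → ℂ := fun a g => (χ : G → ℂ) (g ^ ea a) with hη
  have hηirr : ∀ a, ¬ p ∣ a → IsIrrCharacter G (η a) := fun a ha =>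
    isIrrCharacter_powMap (hcopG a ha) χ
  have hsmall : ∀ a ∈ Finset.Icc 1 t, ¬ p ∣ a := fun a ha hd => by
    rw [Finset.mem_Icc] at ha
    have := Nat.le_of_dvd (by omega) hd
    omega
  set μ : G → ℂ := fun z => (χ : G → ℂ) z / (χ : G → ℂ) 1 with hμ
  have hμmul : ∀ z ∈ Subgroup.center G, ∀ g, (χ : G → ℂ) (z * g) = μ z * (χ : G → ℂ) g := by
    intro z hz g
    rw [hμ, div_mul_eq_mul_div, eq_div_iff h.deg_ne_zero, irr_central_mul hz]
  have hμsq : ∀ z ∈ Subgroup.center G, μ (z * z) = μ z * μ z := by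
    intro z hz
    show (χ : G → ℂ) (z * z) / _ = _
    rw [hμmul z hz, mul_div_assoc]
  have hω1 : ω ^ p = 1 := h.prim.pow_eq_one
  have hω0 : ω ≠ 0 := h.prim.ne_zero hp.ne_zero
  have hωmod : ∀ {k l : ℕ}, k ≡ l [MOD p] → ω ^ k = ω ^ l ∧ ω⁻¹ ^ k = ω⁻¹ ^ l := fun {k l} hkl => by
    have e : ω ^ k = ω ^ l := by rw [pow_eq_pow_mod k hω1, pow_eq_pow_mod l hω1, hkl]
    exact ⟨e, by rw [inv_pow, inv_pow, e]⟩
  -- values at the singular elements
  have hηsing : ∀ a, ¬ p ∣ a → ∀ z ∈ Subgroup.center G, ∀ i : ℕ, ¬ p ∣ i →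
      η a (x ^ i * z) = μ z * μ z * -(ω ^ (i * a) + ω⁻¹ ^ (i * a)) := by
    intro a ha z hz i hi
    have hzx : Commute (x ^ i) z := Subgroup.mem_center_iff.mp hz (x ^ i)
    obtain ⟨hzp, hzo⟩ := h.center_regular hz
    show (χ : G → ℂ) ((x ^ i * z) ^ ea a) = _
    rw [hzx.mul_pow, hpow_reg a z hzp, hb_odd z hzo hzp, ← pow_mul,
      show x ^ (i * ea a) = x ^ (i * a) from pow_eq_pow_iff_modEq.mpr (h.ord ▸ (he2 a).mul_left i),
      (Commute.mul_right (Commute.pow_left (Subgroup.mem_center_iff.mp hz x) _)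
        (Commute.pow_left (Subgroup.mem_center_iff.mp hz x) _) : Commute (x ^ (i * a)) (z * z)).eq,
      hμmul _ (mul_mem hz hz), h.val _ (fun hd => (hp.dvd_mul.mp hd).elim hi ha), hμsq z hz]
  set F : G → ℂ := fun g => ((χ : G → ℂ) g * (χ : G → ℂ) g - (χ : G → ℂ) (g * g)) / 2 with hF
  have hFchar : IsCharacter G F := isCharacter_altSquare (isCharacter_irr χ)
  set T : Finset ℕ := (Finset.Icc 1 t).erase 2 with hT
  have h2mem : 2 ∈ Finset.Icc 1 t := Finset.mem_Icc.mpr ⟨by omega, by omega⟩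
  have hT1 : ∀ a ∈ T, a ∈ Finset.Icc 1 t := fun a ha => Finset.mem_of_mem_erase ha
  set Dl : G → ℂ := fun g => F g - ∑ a ∈ T, η a g with hDl
  have hFsing : ∀ z ∈ Subgroup.center G, ∀ i : ℕ, ¬ p ∣ i →
      Dl (x ^ i * z) = 0 := by
    intro z hz i hi
    have hzx : Commute (x ^ i) z := Subgroup.mem_center_iff.mp hz (x ^ i)
    have h2i : ¬ p ∣ 2 * i := fun hd => (hp.dvd_mul.mp hd).elim
      (fun h2 => by have := Nat.le_of_dvd two_pos h2; omega) hi
    have e1 : (χ : G → ℂ) (x ^ i * z) = μ z * -(ω ^ i + ω⁻¹ ^ i) := by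
      rw [hzx.eq, hμmul z hz, h.val i hi]
    have e2 : (χ : G → ℂ) (x ^ i * z * (x ^ i * z)) =
        μ z * μ z * -(ω ^ (2 * i) + ω⁻¹ ^ (2 * i)) := by
      rw [hzx.symm.mul_mul_mul_comm, ← pow_add, ← two_mul,
        (Commute.mul_right (Commute.pow_left (Subgroup.mem_center_iff.mp hz x) _)
          (Commute.pow_left (Subgroup.mem_center_iff.mp hz x) _) : Commute (x ^ (2 * i)) (z * z)).eq,
        hμmul _ (mul_mem hz hz), h.val _ h2i, hμsq z hz]
    show F (x ^ i * z) - ∑ a ∈ T, η a (x ^ i * z) = 0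
    rw [Finset.sum_congr rfl fun a ha => hηsing a (hsmall a (hT1 a ha)) z hz i hi]
    simp only [hF, e1, e2, ← Finset.mul_sum, Finset.sum_neg_distrib]
    have hs := sum_half_roots h.prim ht hi
    rw [← Finset.add_sum_erase _ _ h2mem, ← hT] at hs
    have hmul : ω ^ i * ω⁻¹ ^ i = 1 := by rw [← mul_pow, mul_inv_cancel₀ hω0, one_pow]
    simp only [mul_comm 2 i, pow_mul] at hs ⊢
    linear_combination (μ z * μ z) * hs + (μ z * μ z) * hmul
  have hcf : IsClassFunction G Dl := by
    intro g y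
    have h1 := isClassFunction_of_isCharacter hFchar g y
    show F _ - _ = F g - _
    rw [h1]
    congr 1
    exact Finset.sum_congr rfl fun a ha =>
      isClassFunction_irr (⟨η a, hηirr a (hsmall a (hT1 a ha))⟩ : IrrCharacter G) g y
  have hDzero : ∀ g, p ∣ orderOf g → Dl g = 0 := by
    intro g hg
    obtain ⟨c, z, i, hz, hi, hcg⟩ := h.sing g hg
    rw [← hcf g c, hcg]
    exact hFsing z hz i hi
  -- distinct members
  have hinj : ∀ a ∈ Finset.Icc 1 t, ∀ a' ∈ Finset.Icc 1 t, η a = η a' → a = a' := by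
    intro a ha a' ha' heq
    have h1 := congrFun heq (x ^ 1 * 1)
    rw [hηsing a (hsmall a ha) 1 (one_mem _) 1 hp.not_dvd_one,
      hηsing a' (hsmall a' ha') 1 (one_mem _) 1 hp.not_dvd_one] at h1
    have hμ1 : μ 1 = 1 := div_self h.deg_ne_zero
    rw [hμ1, one_mul, one_mul, one_mul, one_mul, neg_inj, inv_pow, inv_pow] at h1
    have hA : ω ^ a ≠ 0 := pow_ne_zero _ hω0
    have hA' : ω ^ a' ≠ 0 := pow_ne_zero _ hω0
    have h2 : (ω ^ a - ω ^ a') * (ω ^ a * ω ^ a' - 1) = 0 := by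
      field_simp at h1
      linear_combination h1
    rw [Finset.mem_Icc] at ha ha'
    rcases mul_eq_zero.mp h2 with h3 | h3
    · exact h.prim.pow_inj (by omega) (by omega) (sub_eq_zero.mp h3)
    · rw [← pow_add, sub_eq_zero] at h3
      have := Nat.le_of_dvd (by omega) (h.prim.dvd_of_pow_eq_one _ h3)
      omega
  set H : ℕ → IrrCharacter G := fun a => if ha : ¬ p ∣ a then ⟨η a, hηirr a ha⟩ else χ with hH
  have hHv : ∀ a ∈ Finset.Icc 1 t, ((H a : IrrCharacter G) : G → ℂ) = η a := fun a ha => by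
    simp only [hH, dif_pos (hsmall a ha)]
  have hHinj : Set.InjOn H (Finset.Icc 1 t : Set ℕ) := fun a ha a' ha' e => by
    refine hinj a ha a' ha' ?_
    rw [← hHv a ha, ← hHv a' ha', e]
  choose cc hcc using fun θ : IrrCharacter G => classInner_isCharacter hFchar (isCharacter_irr θ)
  -- the multiplicities
  have hconst : ∀ a ∈ T, cc (H a) = cc (H 2) + 1 := by
    intro a ha
    have key : ∀ k ∈ Finset.Icc 1 t, classInner Dl (η k) =
        (cc (H k) : ℂ) - if k ∈ T then 1 else 0 := by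
      intro k hk
      rw [hDl, show (fun g => F g - ∑ a ∈ T, η a g) = F - ∑ a ∈ T, η a from funext fun g => by
        simp, classInner_sub_left, classInner_sum_left, ← hHv k hk, hcc]
      congr 1
      rw [Finset.sum_congr rfl (g := fun a => if a = k then (1 : ℂ) else 0) fun a ha => ?_,
        Finset.sum_ite_eq']
      rw [← hHv a (hT1 a ha), classInner_irr]
      exact if_congr ⟨fun e => hHinj (hT1 a ha) hk e, fun e => by rw [e]⟩ rfl rfl
    have e : classInner Dl (η a) = classInner Dl (η 2) := by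
      simp only [classInner]
      congr 1
      refine Finset.sum_congr rfl fun g _ => ?_
      by_cases hg : p ∣ orderOf g
      · rw [hDzero g hg, zero_mul, zero_mul]
      · show Dl g * conj ((χ : G → ℂ) (g ^ ea a)) = Dl g * conj ((χ : G → ℂ) (g ^ ea 2))
        rw [hpow_reg a g hg, hpow_reg 2 g hg]
    rw [key a (hT1 a ha), key 2 h2mem, if_pos ha, if_neg (Finset.notMem_erase 2 _), sub_zero,
      sub_eq_iff_eq_add] at e
    exact_mod_cast e
  -- the degree forces equality
  have hFexp : F = ∑ θ : IrrCharacter G, (cc θ : ℂ) • (θ : G → ℂ) := by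
    conv_lhs => rw [classFun_expand (isClassFunction_of_isCharacter hFchar)]
    exact Finset.sum_congr rfl fun θ _ => by rw [hcc θ]
  have hT' : ∀ a ∈ T, (H a : G → ℂ) 1 = (charDegree (χ : G → ℂ) : ℂ) := fun a ha => by
    rw [hHv a (hT1 a ha)]
    show (χ : G → ℂ) (1 ^ ea a) = _
    rw [one_pow, (CfsgLib.Block.charDegree_eq χ).1]
  set d := charDegree (χ : G → ℂ) with hd
  have hdp : d = p - 2 := by
    have e := (CfsgLib.Block.charDegree_eq χ).1
    rw [h.deg, show (p : ℂ) - 2 = ((p - 2 : ℕ) : ℂ) by rw [Nat.cast_sub (by omega)]; norm_num] at e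
    exact_mod_cast e.symm
  have hTcard : T.card + 1 = t := by
    rw [hT, Finset.card_erase_add_one h2mem, Nat.card_Icc]
    omega
  have hdeg : ∑ θ : IrrCharacter G, cc θ * charDegree (θ : G → ℂ) = T.card * d := by
    have e := congrFun hFexp 1
    simp only [hF, mul_one, Finset.sum_apply, Pi.smul_apply, smul_eq_mul,
      (CfsgLib.Block.charDegree_eq _).1, ← hd] at e
    have e' : ((∑ θ : IrrCharacter G, cc θ * charDegree (θ : G → ℂ) : ℕ) : ℂ) * 2 =
        ((T.card * d * 2 : ℕ) : ℂ) := by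
      push_cast
      rw [← e, div_mul_cancel₀ _ two_ne_zero]
      have e1 : (T.card : ℂ) * 2 + 3 = p := by
        rw [show T.card = t - 1 by omega, Nat.cast_sub (by omega), ht]
        push_cast
        ring
      rw [hdp, Nat.cast_sub (by omega : 2 ≤ p)]
      push_cast
      linear_combination (-((p : ℂ) - 2)) * e1
    have e'' : (∑ θ : IrrCharacter G, cc θ * charDegree (θ : G → ℂ)) * 2 = T.card * d * 2 := by
      exact_mod_cast e'
    omega
  have hle : ∀ θ : IrrCharacter G, θ ∈ T.image H → 1 ≤ cc θ := fun θ hθ => by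
    obtain ⟨a, ha, rfl⟩ := Finset.mem_image.mp hθ
    rw [hconst a ha]
    omega
  have hHd : ∀ a ∈ T, charDegree (H a : G → ℂ) = d := fun a ha => by
    have := (CfsgLib.Block.charDegree_eq (H a)).1
    rw [hT' a ha] at this
    exact_mod_cast this.symm
  have hInjT : Set.InjOn H (T : Set ℕ) := hHinj.mono (by exact_mod_cast Finset.erase_subset 2 _)
  have hsumle : ∑ θ ∈ T.image H, charDegree (θ : G → ℂ) = T.card * d := by
    rw [Finset.sum_image hInjT, Finset.sum_congr rfl hHd, Finset.sum_const, smul_eq_mul]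
  have hone : ∀ θ : IrrCharacter G, cc θ = if θ ∈ T.image H then 1 else 0 := by
    have hterm : ∀ θ : IrrCharacter G,
        (if θ ∈ T.image H then charDegree (θ : G → ℂ) else 0) ≤ cc θ * charDegree (θ : G → ℂ) := by
      intro θ
      split_ifs with hθ
      · exact Nat.le_mul_of_pos_left _ (hle θ hθ)
      · exact Nat.zero_le _
    have heq : ∑ θ : IrrCharacter G, (if θ ∈ T.image H then charDegree (θ : G → ℂ) else 0) =
        ∑ θ : IrrCharacter G, cc θ * charDegree (θ : G → ℂ) := by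
      rw [hdeg, ← hsumle, Finset.sum_ite_mem, Finset.univ_inter]
    intro θ
    have := (Finset.sum_eq_sum_iff_of_le fun θ _ => hterm θ).mp heq θ (Finset.mem_univ θ)
    have hpos : 0 < charDegree (θ : G → ℂ) := Nat.pos_of_ne_zero (CfsgLib.Block.charDegree_eq θ).2
    split_ifs with hθ
    · rw [if_pos hθ] at this
      exact Nat.eq_one_of_mul_eq_one_right (m := cc θ) (n := 1) (by
        rw [mul_one]; exact (Nat.eq_of_mul_eq_mul_right hpos (by rw [one_mul]; exact this)).symm)
    · rw [if_neg hθ] at this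
      exact (Nat.mul_eq_zero.mp this.symm).resolve_right hpos.ne'
  -- evaluate at a regular element
  intro g hg
  have e := congrFun hFexp g
  simp only [Finset.sum_apply, Pi.smul_apply, smul_eq_mul, hone, Nat.cast_ite, Nat.cast_one,
    Nat.cast_zero, ite_mul, one_mul, zero_mul, Finset.sum_ite_mem, Finset.univ_inter] at e
  rw [Finset.sum_image hInjT, Finset.sum_congr rfl (g := fun _ => (χ : G → ℂ) (g ^ b)) (fun a ha => by
    rw [hHv a (hT1 a ha)]; show (χ : G → ℂ) (g ^ ea a) = _; rw [hpow_reg a g hg]),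
    Finset.sum_const, nsmul_eq_mul] at e
  have e1 : (T.card : ℂ) * 2 + 3 = p := by
    rw [show T.card = t - 1 by omega, Nat.cast_sub (by omega), ht]
    push_cast
    ring
  simp only [hF] at e
  linear_combination 2 * e + (χ : G → ℂ) (g ^ b) * e1

end CfsgLib.Char.DegreePSubTwo
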